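import Cfsg.Agent.McLaughlinTV.Pairs

/-!
# Irreducible groups generated by transvections over a prime field of odd order

Such a group contains either all transvections, or exactly the symplectic transvections of a
non-degenerate alternating form.
-/

set_option autoImplicit false
set_option linter.unusedSectionVars false

namespace CfsgLib.McLaughlinTV

open Module

variable {p : ℕ} [Fact p.Prime] {X : Type*} [AddCommGroup X] [Module (ZMod p) X] [Finite X]
variable {K : Subgroup (X ≃ₗ[ZMod p] X)}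

/-- An irreducible group generated by transvections, `p` odd. -/
structure Hyp (K : Subgroup (X ≃ₗ[ZMod p] X)) : Prop where
  odd : p ≠ 2
  irr : ∀ U : Submodule (ZMod p) X, (∀ g ∈ K, ∀ x ∈ U, g x ∈ U) → U = ⊥ ∨ U = ⊤
  gen : K ≤ Subgroup.closure {g | ∃ (v : X) (φ : Dual (ZMod p) X),
    P K v φ ∧ ∀ x, g x = x + φ x • v}
  ne : ∃ v, Centre K v

theorem two_ne_zero' (hp : p ≠ 2) : (2 : ZMod p) ≠ 0 := by
  intro h
  have h' : ((2 : ℕ) : ZMod p) = 0 := by exact_mod_cast h
  rw [ZMod.natCast_eq_zero_iff] at h'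
  exact hp ((Nat.prime_dvd_prime_iff_eq Fact.out Nat.prime_two).mp h')

theorem exists_ne_two (hp : p ≠ 2) (a b : ZMod p) : ∃ c, c ≠ a ∧ c ≠ b := by
  by_contra h
  push Not at h
  have hcard : Fintype.card (ZMod p) ≤ 2 := by
    refine le_trans ?_ (Finset.card_le_two (a := a) (b := b))
    refine Finset.card_le_card fun c _ => ?_
    by_cases hc : c = a
    · simp [hc]
    · simp [h c hc]
  rw [ZMod.card] at hcard
  have := (Fact.out : p.Prime).two_le
  omega

namespace Hyp

variable (h : Hyp K)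
include h

/-- A subspace is invariant if every transvection with axis not containing it has its centre
in it. -/
theorem eq_bot_or_top {U : Submodule (ZMod p) X}
    (hU : ∀ (v : X) (φ : Dual (ZMod p) X), P K v φ → v ≠ 0 → φ ≠ 0 →
      (∃ x ∈ U, φ x ≠ 0) → v ∈ U) :
    U = ⊥ ∨ U = ⊤ := by
  haveI : Module.Finite (ZMod p) X := Module.Finite.of_finite
  refine h.irr U fun g hg => ?_
  have hg' := h.gen hg
  induction hg' using Subgroup.closure_induction with
  | mem t ht =>
    obtain ⟨v, φ, hP, hx⟩ := ht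
    intro x hxU
    rw [hx]
    refine U.add_mem hxU ?_
    by_cases hv : v = 0
    · simp [hv]
    by_cases hφ : φ x = 0
    · simp [hφ]
    exact U.smul_mem _ (hU v φ hP hv (fun e => hφ (by rw [e]; rfl)) ⟨x, hxU, hφ⟩)
  | one => exact fun x hx => hx
  | mul a b ha hb iha ihb =>
    have hb' : b ∈ K := by
      refine (Subgroup.closure_le K).mpr ?_ hb
      rintro g ⟨v, φ, ⟨h0, g', hg', hgx'⟩, hgx⟩
      rwa [show g = g' from LinearEquiv.ext fun x => by rw [hgx, hgx']]
    have ha' : a ∈ K := by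
      refine (Subgroup.closure_le K).mpr ?_ ha
      rintro g ⟨v, φ, ⟨h0, g', hg', hgx'⟩, hgx⟩
      rwa [show g = g' from LinearEquiv.ext fun x => by rw [hgx, hgx']]
    exact fun x hx => iha ha' _ (ihb hb' x hx)
  | inv a ha iha =>
    intro x hx
    have ha' : a ∈ K := by
      refine (Subgroup.closure_le K).mpr ?_ ha
      rintro g ⟨v, φ, ⟨h0, g', hg', hgx'⟩, hgx⟩
      rwa [show g = g' from LinearEquiv.ext fun x => by rw [hgx, hgx']]
    have hmap : U.map (a : X →ₗ[ZMod p] X) = U := by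
      refine Submodule.eq_of_le_of_finrank_eq ?_ ?_
      · rintro _ ⟨y, hy, rfl⟩; exact iha ha' y hy
      · exact LinearEquiv.finrank_map_eq a U
    rw [← hmap] at hx
    obtain ⟨y, hy, rfl⟩ := hx
    show a.symm (a y) ∈ U
    rwa [a.symm_apply_apply]

theorem exists_axis {y : X} (hy : y ≠ 0) : ∃ v φ, Centre K v ∧ P K v φ ∧ φ y ≠ 0 := by
  by_contra hno
  push Not at hno
  let U : Submodule (ZMod p) X :=
    { carrier := {x | ∀ v φ, Centre K v → P K v φ → φ x = 0}
      add_mem' := fun ha hb v φ hv hP => by rw [map_add, ha v φ hv hP, hb v φ hv hP, add_zero]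
      zero_mem' := fun v φ _ _ => map_zero φ
      smul_mem' := fun a x hx v φ hv hP => by rw [map_smul, hx v φ hv hP, smul_zero] }
  rcases h.eq_bot_or_top (U := U) (fun v φ hP hv hφ hx => by
    obtain ⟨x, hxU, hne⟩ := hx
    exact absurd (hxU v φ ⟨hv, φ, hP, hφ⟩ hP) hne) with hU | hU
  · exact hy ((Submodule.eq_bot_iff U).mp hU y hno)
  · obtain ⟨v, hv0, φ, hP, hφ⟩ := h.ne
    refine hφ (LinearMap.ext fun x => ?_)
    exact (hU ▸ Submodule.mem_top : x ∈ U) v φ ⟨hv0, φ, hP, hφ⟩ hP

theorem span_centres : Submodule.span (ZMod p) {v | Centre K v} = ⊤ := by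
  rcases h.eq_bot_or_top (U := Submodule.span (ZMod p) {v | Centre K v})
    (fun v φ hP hv hφ _ => Submodule.subset_span ⟨hv, φ, hP, hφ⟩) with hU | hU
  · obtain ⟨v, hv⟩ := h.ne
    exact absurd ((Submodule.eq_bot_iff _).mp hU v (Submodule.subset_span hv)) hv.1
  · exact hU

theorem connected {u v : X} (hu : Centre K u) (hv : Centre K v) :
    Relation.ReflTransGen (Adj K) u v := by
  set S : Set X := {w | Centre K w ∧ Relation.ReflTransGen (Adj K) w v} with hS
  have key : ∀ (w : X) (φ : Dual (ZMod p) X), P K w φ → w ≠ 0 → φ ≠ 0 →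
      (∃ x ∈ Submodule.span (ZMod p) S, φ x ≠ 0) → w ∈ S := by
    rintro w φ hP hw hφ ⟨x, hx, hne⟩
    obtain ⟨y, hyS, hy⟩ : ∃ y ∈ S, φ y ≠ 0 := by
      by_contra hno
      push Not at hno
      exact hne ((Submodule.span_le.mpr hno : Submodule.span (ZMod p) S ≤ LinearMap.ker φ) hx)
    exact ⟨⟨hw, φ, hP, hφ⟩, .head ⟨φ, hP, hy⟩ hyS.2⟩
  rcases h.eq_bot_or_top (U := Submodule.span (ZMod p) S)
    (fun w φ hP hw hφ hx => Submodule.subset_span (key w φ hP hw hφ hx)) with hU | hU
  · exact absurd ((Submodule.eq_bot_iff _).mp hU v (Submodule.subset_span ⟨hv, .refl⟩)) hv.1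
  · obtain ⟨φ, hP, hφ⟩ := hu.2
    obtain ⟨x, hx⟩ : ∃ x, φ x ≠ 0 := by
      by_contra hno
      push Not at hno
      exact hφ (LinearMap.ext hno)
    exact (key u φ hP hu.1 hφ ⟨x, hU ▸ Submodule.mem_top, hx⟩).2

theorem finrank_mono {u w : X} (hadj : Adj K u w) :
    finrank (ZMod p) (Ax K w) ≤ finrank (ZMod p) (Ax K u) := by
  haveI : Module.Finite (ZMod p) X := Module.Finite.of_finite
  by_cases h' : Adj K w u
  · obtain ⟨g, hg, hgu⟩ := exists_map_eq hadj h'
    rw [← hgu, finrank_Ax_conj hg]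
  · obtain ⟨φ, hP, hφ⟩ := hadj
    refine Submodule.finrank_mono fun ψ hψ => hP.shift hψ ?_ hφ
    by_contra hne
    exact h' ⟨ψ, hψ, hne⟩

theorem finrank_eq {u w : X} (hu : Centre K u) (hw : Centre K w) :
    finrank (ZMod p) (Ax K w) = finrank (ZMod p) (Ax K u) := by
  have key : ∀ {a b : X}, Relation.ReflTransGen (Adj K) a b →
      finrank (ZMod p) (Ax K b) ≤ finrank (ZMod p) (Ax K a) := by
    intro a b hab
    induction hab with
    | refl => rfl
    | tail _ hbc ih => exact (h.finrank_mono hbc).trans ih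
  exact le_antisymm (key (h.connected hu hw)) (key (h.connected hw hu))

/-- Moving is symmetric between centres. -/
theorem symm {u w : X} (hu : Centre K u) (hw : Centre K w) (hadj : Adj K u w) : Adj K w u := by
  haveI : Module.Finite (ZMod p) X := Module.Finite.of_finite
  by_contra h'
  obtain ⟨φ, hP, hφ⟩ := hadj
  have hle : Ax K w ≤ Ax K u := fun ψ hψ => hP.shift hψ (by
    by_contra hne; exact h' ⟨ψ, hψ, hne⟩) hφ
  have := Submodule.eq_of_le_of_finrank_eq hle (h.finrank_eq hu hw)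
  have hmem : φ ∈ Ax K w := this ▸ hP
  exact hφ (mem_Ax.mp hmem).1

theorem centre_add_of_adj {u w : X} (hu : Centre K u) (hw : Centre K w) (hadj : Adj K u w) :
    Centre K (u + w) := by
  obtain ⟨g, hg, hgu⟩ := exists_map_add (h.symm hu hw hadj) 1
  have := hu.conj hg
  rwa [hgu, one_smul] at this

theorem exists_adj {v : X} (hv : Centre K v) : ∃ w, Centre K w ∧ Adj K v w := by
  obtain ⟨hv0, φ, hP, hφ⟩ := hv
  by_contra hno
  push Not at hno
  refine hφ (LinearMap.ext fun x => ?_)
  have hle : Submodule.span (ZMod p) {w | Centre K w} ≤ LinearMap.ker φ := by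
    refine Submodule.span_le.mpr fun w hw => ?_
    by_contra hne
    exact hno w hw ⟨φ, hP, hne⟩
  rw [h.span_centres] at hle
  exact hle (Submodule.mem_top : x ∈ ⊤)

/-- Any two centres have a common neighbour. -/
theorem exists_common {a b : X} (ha : Centre K a) (hb : Centre K b) :
    ∃ u, Centre K u ∧ Adj K a u ∧ Adj K b u := by
  suffices key : ∀ c, Relation.ReflTransGen (Adj K) a c → Centre K c →
      ∃ u, Centre K u ∧ Adj K a u ∧ Adj K c u from key b (h.connected ha hb) hb
  intro c hc hcc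
  induction hc with
  | refl => obtain ⟨u, hu, hau⟩ := h.exists_adj ha; exact ⟨u, hu, hau, hau⟩
  | @tail c d hac hcd ih =>
    have hc' : Centre K c := by
      rcases hac.cases_tail with rfl | ⟨e, hae, hec⟩
      · exact ha
      · exact hcd.centre hec.ne_zero
    have hdc := h.symm hc' hcc hcd
    by_cases hacd : Adj K a c
    · exact ⟨c, hc', hacd, hdc⟩
    obtain ⟨u, hu, hau, hcu⟩ := ih hc'
    by_cases hdu : Adj K d u
    · exact ⟨u, hu, hau, hdu⟩
    refine ⟨c + u, h.centre_add_of_adj hc' hu hcu, ?_, ?_⟩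
    · obtain ⟨φ, hP, hφ⟩ := hau
      refine ⟨φ, hP, ?_⟩
      have : φ c = 0 := by
        by_contra hne; exact hacd ⟨φ, hP, hne⟩
      rwa [map_add, this, zero_add]
    · obtain ⟨ψ, hP, hψ⟩ := hdc
      refine ⟨ψ, hP, ?_⟩
      have : ψ u = 0 := by
        by_contra hne; exact hdu ⟨ψ, hP, hne⟩
      rwa [map_add, this, add_zero]

theorem not_adj_apply {v w : X} (hna : ¬ Adj K v w) {φ : Dual (ZMod p) X} (hP : P K v φ) :
    φ w = 0 := by
  by_contra hne; exact hna ⟨φ, hP, hne⟩

/-- A common neighbour of two non-adjacent centres which also moves their sum. -/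
theorem exists_common_moving {v w : X} (hv : Centre K v) (hw : Centre K w) (hna : ¬ Adj K v w)
    (hy : v + w ≠ 0) :
    ∃ u φ, Centre K u ∧ P K u φ ∧ Adj K v u ∧ Adj K w u ∧ φ (v + w) ≠ 0 := by
  have hna' : ¬ Adj K w v := fun e => hna (h.symm hw hv e)
  obtain ⟨u, hu, hvu, hwu⟩ := h.exists_common hv hw
  by_contra hno
  push Not at hno
  obtain ⟨φ, hPu, hφv⟩ := h.symm hv hu hvu
  have hφy := hno u φ hu hPu hvu hwu
  rw [map_add] at hφy
  obtain ⟨z, ψ, hz, hPz, hψy⟩ := h.exists_axis hy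
  rw [map_add] at hψy
  -- it suffices to find a centre from which `ψ` sees the auxiliary common neighbour
  suffices key : ∀ u' φ', Centre K u' → P K u' φ' → φ' v ≠ 0 → φ' v + φ' w = 0 → ψ u' ≠ 0 →
      False by
    by_cases hψu : ψ u = 0
    swap
    · exact key u φ hu hPu hφv hφy hψu
    -- replace `u` by a conjugate
    have move : ∀ (x : X) (χ : Dual (ZMod p) X), P K x χ → χ u ≠ 0 → χ v = 0 → χ w = 0 →
        ψ x ≠ 0 → False := by
      intro x χ hPx hχu hχv hχw hψx
      obtain ⟨-, g, hg, hgx⟩ := hPx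
      have e1 : ∀ a, χ a = 0 → g.symm a = a := fun a ha => by
        rw [LinearEquiv.symm_apply_eq, hgx, ha, zero_smul, add_zero]
      refine key (g u) (φ ∘ₗ (g.symm : X →ₗ[ZMod p] X)) (hu.conj hg) (hPu.conj hg) ?_ ?_ ?_
      · simp [e1 v hχv, hφv]
      · simp [e1 v hχv, e1 w hχw, hφy]
      · rw [hgx, map_add, map_smul, hψu, zero_add, smul_eq_mul]
        exact mul_ne_zero hχu hψx
    rcases eq_or_ne (ψ v) 0 with hψv | hψv
    · obtain ⟨χ, hPx, hχu⟩ := hwu
      exact move w χ hPx hχu (h.not_adj_apply hna' hPx) hPx.1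
        (by rwa [hψv, zero_add] at hψy)
    · obtain ⟨χ, hPx, hχu⟩ := hvu
      exact move v χ hPx hχu hPx.1 (h.not_adj_apply hna hPx) hψv
  intro u' φ' hu' hP' hφ'v hφ'y hψu'
  have hD : φ' v * ψ u' ≠ 0 := mul_ne_zero hφ'v hψu'
  obtain ⟨c, hc1, hc2⟩ := exists_ne_two h.odd (ψ v / (φ' v * ψ u')) (-ψ w / (φ' v * ψ u'))
  have hφ'w : φ' w = -φ' v := eq_neg_of_add_eq_zero_right hφ'y
  obtain ⟨-, g, hg, hgx⟩ := hP'.smul_axis c
  set ψ' := ψ ∘ₗ (g.symm : X →ₗ[ZMod p] X) with hψ'
  have e : ∀ a, ψ' a = ψ a - c * φ' a * ψ u' := by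
    intro a
    have h1 : g.symm a = a - (c * φ' a) • u' := by
      rw [LinearEquiv.symm_apply_eq, hgx, map_sub, map_smul, LinearMap.smul_apply,
        LinearMap.smul_apply, hP'.1]
      simp
    simp [hψ', h1]
  have hzc : Centre K (g z) := hz.conj hg
  have hPz' : P K (g z) ψ' := hPz.conj hg
  have hv' : ψ' v ≠ 0 := by
    rw [e, sub_ne_zero]
    intro hh
    exact hc1 (by rw [eq_div_iff hD, hh]; ring)
  have hw' : ψ' w ≠ 0 := by
    rw [e, sub_ne_zero]
    intro hh
    exact hc2 (by rw [eq_div_iff hD, hh, hφ'w]; ring)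
  have := hno (g z) ψ' hzc hPz' (h.symm hzc hv ⟨ψ', hPz', hv'⟩) (h.symm hzc hw ⟨ψ', hPz', hw'⟩)
  rw [map_add, e, e, hφ'w] at this
  exact hψy (by rw [← this]; ring)

/-- Every non-zero vector is a centre. -/
theorem centre {x : X} (hx : x ≠ 0) : Centre K x := by
  have hadd : ∀ v w, Centre K v → Centre K w → v + w ≠ 0 → Centre K (v + w) := by
    intro v w hv hw hy
    by_cases hna : Adj K v w
    · exact h.centre_add_of_adj hv hw hna
    obtain ⟨u, φ, hu, hPu, hvu, hwu, hφy⟩ := h.exists_common_moving hv hw hna hy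
    have hx' := h.centre_add_of_adj hv hu hvu
    obtain ⟨χ, hPw, hχu⟩ := hwu
    have hna' : ¬ Adj K w v := fun e => hna (h.symm hw hv e)
    have hwx : Adj K w (v + u) := ⟨χ, hPw, by
      rw [map_add, h.not_adj_apply hna' hPw, zero_add]; exact hχu⟩
    have h1 := h.centre_add_of_adj hw hx' hwx
    have h2 : Adj K u (w + (v + u)) := ⟨φ, hPu, by
      rw [map_add] at hφy
      rw [map_add, map_add, hPu.1, add_zero, add_comm]; exact hφy⟩
    have hne : (-1 : ZMod p) ≠ 0 := neg_ne_zero.mpr one_ne_zero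
    obtain ⟨φ', hP', hφ'⟩ := h2
    have h3 : Adj K ((-1 : ZMod p) • u) (w + (v + u)) := ⟨φ', hP'.smul_centre _, hφ'⟩
    have h4 := h.centre_add_of_adj (hu.smul hne) h1 h3
    rwa [neg_one_smul, show -u + (w + (v + u)) = v + w by abel] at h4
  have hmem : x ∈ Submodule.span (ZMod p) {v | Centre K v} := h.span_centres ▸ Submodule.mem_top
  have key : x = 0 ∨ Centre K x := by
    clear hx
    induction hmem using Submodule.span_induction with
    | mem y hy => exact Or.inr hy
    | zero => exact Or.inl rfl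
    | add a b _ _ iha ihb =>
      rcases iha with rfl | ha
      · rw [zero_add]; exact ihb
      rcases ihb with rfl | hb
      · rw [add_zero]; exact Or.inr ha
      by_cases hab : a + b = 0
      · exact Or.inl hab
      · exact Or.inr (hadd a b ha hb hab)
    | smul c a _ iha =>
      rcases iha with rfl | ha
      · exact Or.inl (smul_zero c)
      by_cases hc : c = 0
      · exact Or.inl (by rw [hc, zero_smul])
      · exact Or.inr (ha.smul hc)
  exact key.resolve_left hx

theorem symm' {u w : X} (hu : u ≠ 0) (hadj : Adj K u w) : Adj K w u :=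
  h.symm (h.centre hu) (h.centre hadj.ne_zero) hadj

theorem finrank_eq' {u w : X} (hu : u ≠ 0) (hw : w ≠ 0) :
    finrank (ZMod p) (Ax K w) = finrank (ZMod p) (Ax K u) :=
  h.finrank_eq (h.centre hu) (h.centre hw)

/-- Centres are transitively permuted. -/
theorem exists_map {u w : X} (hu : u ≠ 0) (hw : w ≠ 0) : ∃ g ∈ K, g u = w := by
  have hr := h.connected (h.centre hu) (h.centre hw)
  clear hw
  induction hr with
  | refl => exact ⟨1, one_mem K, rfl⟩
  | @tail c d hac hcd ih =>
    obtain ⟨g, hg, hgu⟩ := ih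
    have hc : c ≠ 0 := hgu ▸ (by simpa using hu)
    obtain ⟨g', hg', hgc⟩ := exists_map_eq hcd (h.symm' hc hcd)
    exact ⟨g' * g, mul_mem hg' hg, by rw [LinearEquiv.mul_apply, hgu, hgc]⟩

end Hyp

end CfsgLib.McLaughlinTV
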