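import Cfsg.Agent.McLaughlinTV.Groups

/-!
# Splitting a group generated by transvections

If a group generated by transvections (over a prime field of odd order) has no non-trivial normal
subgroup of exponent `p`, then the space is the direct sum of the fixed space and of subspaces on
which direct factors act as special linear or symplectic groups.
-/

set_option autoImplicit false
set_option linter.unusedSectionVars false
set_option linter.style.haveILetI false

namespace CfsgLib.McLaughlinTV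

open Module

variable {p : ℕ} [Fact p.Prime] {V : Type*} [AddCommGroup V] [Module (ZMod p) V] [Finite V]

/-- The vectors fixed by `H`. -/
def fixed (H : Subgroup (V ≃ₗ[ZMod p] V)) : Submodule (ZMod p) V where
  carrier := {x | ∀ h ∈ H, h x = x}
  add_mem' ha hb h hh := by rw [map_add, ha h hh, hb h hh]
  zero_mem' h _ := map_zero h
  smul_mem' a x hx h hh := by rw [map_smul, hx h hh]

/-- The elements whose displacements lie in `U`. -/
def displ (U : Submodule (ZMod p) V) : Subgroup (V ≃ₗ[ZMod p] V) where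
  carrier := {g | ∀ x, g x - x ∈ U}
  one_mem' x := by simp
  mul_mem' {a b} ha hb x := by
    rw [LinearEquiv.mul_apply, show a (b x) - x = (a (b x) - b x) + (b x - x) by abel]
    exact U.add_mem (ha _) (hb x)
  inv_mem' {a} ha x := by
    have := U.neg_mem (ha (a.symm x))
    rwa [a.apply_symm_apply, neg_sub] at this

/-- The elements fixing `U` pointwise. -/
def pointwise' (U : Submodule (ZMod p) V) : Subgroup (V ≃ₗ[ZMod p] V) where
  carrier := {g | ∀ x ∈ U, g x = x}
  one_mem' x _ := rfl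
  mul_mem' {a b} ha hb x hx := by rw [LinearEquiv.mul_apply, hb x hx, ha x hx]
  inv_mem' {a} ha x hx := by
    show a.symm x = x
    rw [LinearEquiv.symm_apply_eq, ha x hx]

theorem mem_displ {U : Submodule (ZMod p) V} {g : V ≃ₗ[ZMod p] V} :
    g ∈ displ U ↔ ∀ x, g x - x ∈ U := Iff.rfl

theorem mem_pointwise' {U : Submodule (ZMod p) V} {g : V ≃ₗ[ZMod p] V} :
    g ∈ pointwise' U ↔ ∀ x ∈ U, g x = x := Iff.rfl

/-- Generated by transvections, without normal subgroups of exponent `p`. -/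
structure Gen (H : Subgroup (V ≃ₗ[ZMod p] V)) : Prop where
  odd : p ≠ 2
  gen : H ≤ Subgroup.closure {g | ∃ (v : V) (φ : Dual (ZMod p) V),
    P H v φ ∧ ∀ x, g x = x + φ x • v}
  red : ∀ N ≤ H, (∀ h ∈ H, ∀ n ∈ N, h * n * h⁻¹ ∈ N) → (∀ n ∈ N, n ^ p = 1) → N = ⊥

/-- The image of `K` on an invariant subspace is a special linear or symplectic group. -/
def IsClassical (K : Subgroup (V ≃ₗ[ZMod p] V)) (U : Submodule (ZMod p) V) : Prop :=
  ∃ ρ : ↥K →* (↥U ≃ₗ[ZMod p] ↥U),
    (∀ (h : ↥K) (v : ↥U), ((ρ h v : ↥U) : V) = (h : V ≃ₗ[ZMod p] V) (v : V)) ∧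
    ((ρ.range : Set (↥U ≃ₗ[ZMod p] ↥U)) =
        {f : ↥U ≃ₗ[ZMod p] ↥U | LinearMap.det (f : ↥U →ₗ[ZMod p] ↥U) = 1} ∨
      ∃ B : LinearMap.BilinForm (ZMod p) ↥U, B.IsAlt ∧ B.Nondegenerate ∧
        (ρ.range : Set (↥U ≃ₗ[ZMod p] ↥U)) =
          {f : ↥U ≃ₗ[ZMod p] ↥U | ∀ x y, B (f x) (f y) = B x y})

/-- The decomposition. -/
def Decomp (H : Subgroup (V ≃ₗ[ZMod p] V)) : Prop :=
  ∃ (n : ℕ) (W : Fin n → Submodule (ZMod p) V) (K : Fin n → Subgroup (V ≃ₗ[ZMod p] V)),
    (∀ j, K j ≤ H) ∧ H ≤ ⨆ j, K j ∧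
    (∀ i j, i ≠ j → ∀ a ∈ K i, ∀ b ∈ K j, Commute a b) ∧
    (∀ i j, i ≠ j → ∀ a ∈ K j, ∀ x ∈ W i, a x = x) ∧
    (∀ j, ∀ a ∈ K j, ∀ x ∈ W j, a x ∈ W j) ∧
    (∀ U, H ≤ displ U → ∀ j, W j ≤ U) ∧
    fixed H ⊔ (⨆ j, W j) = ⊤ ∧
    finrank (ZMod p) (fixed H) + ∑ j, finrank (ZMod p) (W j) = finrank (ZMod p) V ∧
    ∀ j, IsClassical (K j) (W j)

/-- The elements stabilising `U`. -/
def stab' (U : Submodule (ZMod p) V) : Subgroup (V ≃ₗ[ZMod p] V) where
  carrier := {g | (∀ x ∈ U, g x ∈ U) ∧ ∀ x ∈ U, g.symm x ∈ U}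
  one_mem' := ⟨fun x hx => hx, fun x hx => hx⟩
  mul_mem' ha hb := ⟨fun x hx => ha.1 _ (hb.1 x hx), fun x hx => hb.2 _ (ha.2 x hx)⟩
  inv_mem' ha := ⟨ha.2, ha.1⟩

/-- Restriction to an invariant subspace. -/
def resHom (K : Subgroup (V ≃ₗ[ZMod p] V)) (U : Submodule (ZMod p) V)
    (hU : ∀ a ∈ K, ∀ x ∈ U, a x ∈ U) : ↥K →* (↥U ≃ₗ[ZMod p] ↥U) where
  toFun a :=
    { toFun := fun x => ⟨(a : V ≃ₗ[ZMod p] V) x, hU _ a.2 x x.2⟩
      map_add' := fun x y => Subtype.ext (map_add _ _ _)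
      map_smul' := fun c x => Subtype.ext (map_smul (a : V ≃ₗ[ZMod p] V) c (x : V))
      invFun := fun x => ⟨(a : V ≃ₗ[ZMod p] V).symm x, hU _ (inv_mem a.2) x x.2⟩
      left_inv := fun x => Subtype.ext ((a : V ≃ₗ[ZMod p] V).symm_apply_apply _)
      right_inv := fun x => Subtype.ext ((a : V ≃ₗ[ZMod p] V).apply_symm_apply _) }
  map_one' := LinearEquiv.ext fun _ => rfl
  map_mul' _ _ := LinearEquiv.ext fun _ => rfl

/-- The action on the quotient by an invariant subspace. -/
def quotHom {G U : Type*} [Group G] [AddCommGroup U] [Module (ZMod p) U]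
    (σ : G →* (U ≃ₗ[ZMod p] U)) (N : Submodule (ZMod p) U) (hN : ∀ a, ∀ x ∈ N, σ a x ∈ N) :
    G →* ((U ⧸ N) ≃ₗ[ZMod p] (U ⧸ N)) where
  toFun a := LinearEquiv.ofLinearMap (N.mapQ N (σ a).toLinearMap (fun x hx => hN a x hx))
    (N.mapQ N (σ a⁻¹).toLinearMap (fun x hx => hN a⁻¹ x hx))
    (Submodule.linearMap_qext _ (LinearMap.ext fun x => congrArg N.mkQ (by
      show (σ a * σ a⁻¹) x = x
      rw [← map_mul, mul_inv_cancel, map_one]; rfl)))
    (Submodule.linearMap_qext _ (LinearMap.ext fun x => congrArg N.mkQ (by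
      show (σ a⁻¹ * σ a) x = x
      rw [← map_mul, inv_mul_cancel, map_one]; rfl)))
  map_one' := by
    refine LinearEquiv.ext fun y => ?_
    obtain ⟨x, rfl⟩ := N.mkQ_surjective y
    show N.mkQ (σ 1 x) = N.mkQ x
    rw [map_one]; rfl
  map_mul' a b := by
    refine LinearEquiv.ext fun y => ?_
    obtain ⟨x, rfl⟩ := N.mkQ_surjective y
    show N.mkQ (σ (a * b) x) = N.mkQ (σ a (σ b x))
    rw [map_mul]; rfl

namespace Gen

variable {H : Subgroup (V ≃ₗ[ZMod p] V)} (hH : Gen H)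
include hH

/-- Elements stabilising an invariant chain of length three are trivial. -/
theorem chain_eq_one {W' W : Submodule (ZMod p) V} (hW' : ∀ g ∈ H, ∀ x ∈ W', g x ∈ W')
    (hW : ∀ g ∈ H, ∀ x ∈ W, g x ∈ W) {g : V ≃ₗ[ZMod p] V} (hg : g ∈ H)
    (h1 : ∀ x, g x - x ∈ W) (h2 : ∀ x ∈ W, g x - x ∈ W') (h3 : ∀ x ∈ W', g x = x) : g = 1 := by
  let N : Subgroup (V ≃ₗ[ZMod p] V) :=
    { carrier := {g | g ∈ H ∧ (∀ x, g x - x ∈ W) ∧ (∀ x ∈ W, g x - x ∈ W') ∧ ∀ x ∈ W', g x = x}
      one_mem' := ⟨one_mem H, by simp, by simp, fun x _ => rfl⟩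
      mul_mem' := by
        rintro a b ⟨ha, a1, a2, a3⟩ ⟨hb, b1, b2, b3⟩
        have e : ∀ x, (a * b) x - x = (a (b x) - b x) + (b x - x) := fun x => by
          rw [LinearEquiv.mul_apply]; abel
        refine ⟨mul_mem ha hb, fun x => ?_, fun x hx => ?_, fun x hx => ?_⟩
        · rw [e]; exact W.add_mem (a1 _) (b1 x)
        · rw [e]; exact W'.add_mem (a2 _ (hW b hb x hx)) (b2 x hx)
        · rw [LinearEquiv.mul_apply, b3 x hx, a3 x hx]
      inv_mem' := by
        rintro a ⟨ha, a1, a2, a3⟩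
        refine ⟨inv_mem ha, (displ W).inv_mem a1, fun x hx => ?_, (pointwise' W').inv_mem a3⟩
        have := W'.neg_mem (a2 _ (hW a⁻¹ (inv_mem ha) x hx))
        change -(a (a.symm x) - a.symm x) ∈ W' at this
        rwa [a.apply_symm_apply, neg_sub] at this }
  have hN : N = ⊥ := by
    refine hH.red N (fun g hg => hg.1) ?_ ?_
    · rintro h hh n ⟨hn, n1, n2, n3⟩
      have e : ∀ x, (h * n * h⁻¹) x = h (n (h⁻¹ x)) := fun x => rfl
      have e' : ∀ x, h (h⁻¹ x) = x := fun x => h.apply_symm_apply x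
      refine ⟨mul_mem (mul_mem hh hn) (inv_mem hh), fun x => ?_, fun x hx => ?_, fun x hx => ?_⟩
      · have := hW h hh _ (n1 (h⁻¹ x))
        rwa [map_sub, e', ← e] at this
      · have := hW' h hh _ (n2 _ (hW h⁻¹ (inv_mem hh) x hx))
        rwa [map_sub, e', ← e] at this
      · rw [e, n3 _ (hW' h⁻¹ (inv_mem hh) x hx), e']
    · rintro n ⟨-, n1, n2, n3⟩
      have key : ∀ (m : ℕ) (x : V), (n ^ m) x =
          x + m • (n x - x) + m.choose 2 • (n (n x - x) - (n x - x)) := by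
        intro m
        induction m with
        | zero => intro x; simp
        | succ m ih =>
          intro x
          have e3 := n3 _ (n2 _ (n1 x))
          have hch : (m + 1).choose 2 = m + m.choose 2 := by
            rw [Nat.choose_succ_succ', Nat.choose_one_right]
          rw [pow_succ', LinearEquiv.mul_apply, ih x, map_add, map_add, map_nsmul, map_nsmul, e3,
            hch]
          generalize hd : n x - x = d
          have ex : n x = x + d := by rw [← hd]; abel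
          generalize he : n d - d = e
          have ed : n d = d + e := by rw [← he]; abel
          rw [ex, ed]
          simp only [add_smul, one_smul, smul_add]
          abel
      refine LinearEquiv.ext fun x => ?_
      have hp : p ∣ p.choose 2 := (Fact.out : p.Prime).dvd_choose_self two_ne_zero
        (lt_of_le_of_ne (Fact.out : p.Prime).two_le hH.odd.symm)
      obtain ⟨k, hk⟩ := hp
      have hzero : ∀ y : V, p • y = 0 := fun y => by
        rw [← Nat.cast_smul_eq_nsmul (ZMod p), ZMod.natCast_self, zero_smul]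
      rw [key p x, hzero, hk, mul_smul, hzero]
      simp
  have : g ∈ N := ⟨hg, h1, h2, h3⟩
  rw [hN] at this
  exact Subgroup.mem_bot.mp this

theorem displ_le {U : Submodule (ZMod p) V} {S : Set (V ≃ₗ[ZMod p] V)}
    (hS : ∀ g ∈ S, ∀ x, g x - x ∈ U) : Subgroup.closure S ≤ displ U :=
  (Subgroup.closure_le _).mpr hS

end Gen

/-- An irreducible section gives a factor; the rest is handled by induction. -/
theorem decomp : ∀ {H : Subgroup (V ≃ₗ[ZMod p] V)}, Gen H → Decomp H := by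
  haveI : Module.Finite (ZMod p) V := Module.Finite.of_finite
  intro H
  induction hc : Nat.card H using Nat.strong_induction_on generalizing H with
  | h c ih =>
  subst hc
  intro hH
  classical
  by_cases hbot : H = ⊥
  · subst hbot
    have hfix : fixed (⊥ : Subgroup (V ≃ₗ[ZMod p] V)) = ⊤ :=
      eq_top_iff.mpr fun x _ h hh => by rw [Subgroup.mem_bot.mp hh]; rfl
    refine ⟨0, Fin.elim0, Fin.elim0, fun j => j.elim0, bot_le, fun i => i.elim0, fun i => i.elim0,
      fun j => j.elim0, fun _ _ j => j.elim0, ?_, ?_, fun j => j.elim0⟩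
    · rw [hfix, top_sup_eq]
    · rw [Finset.univ_eq_empty, Finset.sum_empty, add_zero, hfix, finrank_top]
  -- an irreducible non-trivial section
  let Inv : Set (Submodule (ZMod p) V) := {U | ∀ g ∈ H, ∀ x ∈ U, g x ∈ U}
  have hfinS : Finite (Submodule (ZMod p) V) :=
    Finite.of_injective (fun U : Submodule (ZMod p) V => (U : Set V)) SetLike.coe_injective
  obtain ⟨W, ⟨hW, g₀, hg₀, x₀, hx₀, hgx₀⟩, hWmin⟩ := Set.exists_min_image
    {U : Submodule (ZMod p) V | U ∈ Inv ∧ ∃ g ∈ H, ∃ x ∈ U, g x ≠ x}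
    (fun U => finrank (ZMod p) U) (Set.toFinite _) ⟨⊤, fun g _ x _ => Submodule.mem_top, by
      obtain ⟨g, hg1⟩ := (Subgroup.ne_bot_iff_exists_ne_one.mp hbot)
      have : ∃ x, (g : V ≃ₗ[ZMod p] V) x ≠ x := by
        by_contra hno; push Not at hno; exact hg1 (Subtype.ext (LinearEquiv.ext hno))
      obtain ⟨x, hx⟩ := this
      exact ⟨g, g.2, x, Submodule.mem_top, hx⟩⟩
  obtain ⟨W', ⟨hW', hW'lt⟩, hW'max⟩ := Set.exists_max_image
    {U : Submodule (ZMod p) V | U ∈ Inv ∧ U < W}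
    (fun U => finrank (ZMod p) U) (Set.toFinite _)
    ⟨⊥, fun g _ x hx => by rw [(Submodule.mem_bot _).mp hx, map_zero]; exact zero_mem _,
      bot_lt_iff_ne_bot.mpr fun e => hgx₀ (by
        rw [e] at hx₀; rw [(Submodule.mem_bot _).mp hx₀, map_zero])⟩
  have htriv' : ∀ g ∈ H, ∀ x ∈ W', g x = x := by
    intro g hg x hx
    by_contra hne
    exact absurd (hWmin W' ⟨hW', g, hg, x, hx, hne⟩) (not_le.mpr (Submodule.finrank_lt_finrank_of_lt hW'lt))
  have hsec : ∀ U ∈ Inv, W' ≤ U → U ≤ W → U = W' ∨ U = W := by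
    intro U hU h1 h2
    refine or_iff_not_imp_right.mpr fun hne => ?_
    exact (Submodule.eq_of_le_of_finrank_le h1 (hW'max U ⟨hU, lt_of_le_of_ne h2 hne⟩)).symm
  -- the two kinds of transvections
  set TA := {g : V ≃ₗ[ZMod p] V | ∃ v φ, P H v φ ∧ v ∈ W ∧ ∀ x, g x = x + φ x • v}
  set TB := {g : V ≃ₗ[ZMod p] V | ∃ v φ, P H v φ ∧ v ∉ W ∧ ∀ x, g x = x + φ x • v}
  have hTH : ∀ {g : V ≃ₗ[ZMod p] V} {v : V} {φ : Dual (ZMod p) V}, P H v φ →
      (∀ x, g x = x + φ x • v) → g ∈ H := by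
    intro g v φ hP hx
    obtain ⟨-, g', hg', hg'x⟩ := hP
    rwa [show g = g' from LinearEquiv.ext fun x => by rw [hx, hg'x]]
  set HA := Subgroup.closure TA with hHA
  set HB := Subgroup.closure TB with hHB
  have hHAle : HA ≤ H := (Subgroup.closure_le _).mpr fun g ⟨v, φ, hP, _, hx⟩ => hTH hP hx
  have hHBle : HB ≤ H := (Subgroup.closure_le _).mpr fun g ⟨v, φ, hP, _, hx⟩ => hTH hP hx
  have hBW : ∀ {w : V} {ψ : Dual (ZMod p) V}, P H w ψ → w ∉ W → ∀ x ∈ W, ψ x = 0 := by
    intro w ψ hP hw x hx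
    by_contra hne
    obtain ⟨-, g, hg, hgx⟩ := hP
    have := W.sub_mem (hW g hg x hx) hx
    rw [hgx, add_sub_cancel_left, W.smul_mem_iff hne] at this
    exact hw this
  have hcross : ∀ {v w : V} {φ ψ : Dual (ZMod p) V}, P H v φ → v ∈ W → v ≠ 0 → P H w ψ →
      w ∉ W → ψ ≠ 0 → φ w = 0 := by
    intro v w φ ψ hP hv hv0 hQ hw hψ
    by_contra hne
    obtain ⟨-, g, hg, hgx⟩ := hP.shift hQ (hBW hQ hw v hv) hne
    have hg1 : g = 1 := hH.chain_eq_one hW' hW hg
      (fun x => by rw [hgx, add_sub_cancel_left]; exact W.smul_mem _ hv)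
      (fun x hx => by rw [hgx, add_sub_cancel_left, hBW hQ hw x hx, zero_smul]; exact zero_mem _)
      (fun x hx => htriv' g hg x hx)
    refine hψ (LinearMap.ext fun x => ?_)
    have := hgx x
    rw [hg1, LinearEquiv.coe_one, id_eq, left_eq_add, smul_eq_zero] at this
    exact this.resolve_right hv0
  have hcomm : ∀ a ∈ HA, ∀ b ∈ HB, Commute a b := by
    have hT : TA ⊆ Subgroup.centralizer (HB : Set (V ≃ₗ[ZMod p] V)) := by
      rintro a ⟨v, φ, hP, hv, hax⟩
      have : HB ≤ Subgroup.centralizer {a} := by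
        refine (Subgroup.closure_le _).mpr ?_
        rintro b ⟨w, ψ, hQ, hw, hbx⟩
        rw [SetLike.mem_coe, Subgroup.mem_centralizer_singleton_iff]
        refine LinearEquiv.ext fun x => ?_
        have key : (ψ x * φ w) • v = 0 := by
          by_cases hv0 : v = 0
          · simp [hv0]
          by_cases hψ : ψ = 0
          · simp [hψ]
          rw [hcross hP hv hv0 hQ hw hψ, mul_zero, zero_smul]
        simp only [LinearEquiv.mul_apply, hax, hbx, map_add, map_smul, hBW hQ hw v hv, smul_eq_mul,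
          add_smul, key]
        simp only [mul_zero, zero_smul, add_zero]
        abel
      rw [SetLike.mem_coe, Subgroup.mem_centralizer_iff]
      intro b hb
      exact Subgroup.mem_centralizer_singleton_iff.mp (this hb)
    intro a ha b hb
    exact (Subgroup.mem_centralizer_iff.mp ((Subgroup.closure_le _).mpr hT ha) b hb).symm
  have hHsup : H ≤ HA ⊔ HB := by
    refine hH.gen.trans ((Subgroup.closure_le _).mpr ?_)
    rintro g ⟨v, φ, hP, hgx⟩
    by_cases hv : v ∈ W
    · exact Subgroup.mem_sup_left (Subgroup.subset_closure ⟨v, φ, hP, hv, hgx⟩)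
    · exact Subgroup.mem_sup_right (Subgroup.subset_closure ⟨v, φ, hP, hv, hgx⟩)
  have hBfix : HB ≤ pointwise' W := by
    refine (Subgroup.closure_le _).mpr ?_
    rintro g ⟨w, ψ, hQ, hw, hgx⟩ x hx
    rw [hgx, hBW hQ hw x hx, zero_smul, add_zero]
  have hAdispl : HA ≤ displ W := by
    refine (Subgroup.closure_le _).mpr ?_
    rintro g ⟨v, φ, hP, hv, hgx⟩ x
    rw [hgx, add_sub_cancel_left]
    exact W.smul_mem _ hv
  -- the action on the section
  let σ : ↥HA →* (↥W ≃ₗ[ZMod p] ↥W) := resHom HA W fun a ha => hW a (hHAle ha)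
  let N : Submodule (ZMod p) W := W'.comap W.subtype
  let ρ : ↥HA →* ((↥W ⧸ N) ≃ₗ[ZMod p] (↥W ⧸ N)) := quotHom σ N fun a x hx =>
    show (a : V ≃ₗ[ZMod p] V) (x : V) ∈ W' from hW' _ (hHAle a.2) _ hx
  have hρ : ∀ (a : ↥HA) (x : ↥W), ρ a (N.mkQ x) = N.mkQ (σ a x) := fun a x => rfl
  have hinj : Function.Injective ρ := by
    refine (injective_iff_map_eq_one ρ).mpr fun a ha => Subtype.ext ?_
    refine hH.chain_eq_one hW' hW (hHAle a.2) (hAdispl a.2) (fun x hx => ?_)
      (fun x hx => htriv' _ (hHAle a.2) x hx)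
    have h1 := hρ a ⟨x, hx⟩
    rw [ha, LinearEquiv.coe_one, id_eq, eq_comm] at h1
    exact (Submodule.Quotient.eq N).mp h1
  have hker : ∀ {v : V} {φ : Dual (ZMod p) V}, P HA v φ → v ≠ 0 → N ≤ LinearMap.ker (φ ∘ₗ W.subtype) := by
    rintro v φ ⟨-, g, hg, hgx⟩ hv x hx
    have := htriv' g (hHAle hg) x hx
    rw [hgx, add_eq_left, smul_eq_zero] at this
    exact this.resolve_right hv
  have himage : ∀ {v : V} {φ : Dual (ZMod p) V} (hP : P HA v φ) (hv : v ∈ W) (hv0 : v ≠ 0),
      P ρ.range (N.mkQ ⟨v, hv⟩) (N.liftQ (φ ∘ₗ W.subtype) (hker hP hv0)) := by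
    rintro v φ ⟨h0, g, hg, hgx⟩ hv hv0
    refine ⟨h0, ρ ⟨g, hg⟩, ⟨_, rfl⟩, fun y => ?_⟩
    obtain ⟨x, rfl⟩ := N.mkQ_surjective y
    rw [hρ, Submodule.mkQ_apply N x, Submodule.liftQ_apply, ← Submodule.mkQ_apply N x, ← map_smul,
      ← map_add]
    exact congrArg N.mkQ (Subtype.ext (hgx x))
  have hX : Hyp ρ.range := by
    refine ⟨hH.odd, fun U hU => ?_, ?_, ?_⟩
    · set U' := (U.comap N.mkQ).map W.subtype with hU'
      have hle : W' ≤ U' := fun x hx => ⟨⟨x, hW'lt.le hx⟩,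
        show N.mkQ ⟨x, hW'lt.le hx⟩ ∈ U by
          rw [Submodule.mkQ_apply, (Submodule.Quotient.mk_eq_zero N).mpr hx]; exact zero_mem U, rfl⟩
      have hinvA : ∀ a ∈ HA, ∀ x ∈ U', a x ∈ U' := by
        rintro a ha _ ⟨x, hx, rfl⟩
        refine ⟨σ ⟨a, ha⟩ x, ?_, rfl⟩
        show N.mkQ (σ ⟨a, ha⟩ x) ∈ U
        rw [← hρ]
        exact hU _ ⟨_, rfl⟩ _ hx
      have hinv : U' ∈ Inv := by
        intro g hg
        have : H ≤ stab' U' := hHsup.trans (sup_le
          (fun a ha => ⟨hinvA a ha, hinvA a⁻¹ (inv_mem ha)⟩)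
          (fun b hb => ⟨fun x hx => by
            rw [hBfix hb x (W.map_subtype_le _ hx)]; exact hx, fun x hx => by
            show b⁻¹ x ∈ U'
            rw [hBfix (inv_mem hb) x (W.map_subtype_le _ hx)]; exact hx⟩))
        exact (this hg).1
      rcases hsec U' hinv hle (W.map_subtype_le _) with e | e
      · left
        rw [Submodule.eq_bot_iff]
        intro y hy
        obtain ⟨x, rfl⟩ := N.mkQ_surjective y
        exact (Submodule.Quotient.mk_eq_zero N).mpr (show (x : V) ∈ W' from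
          e ▸ ⟨x, hy, rfl⟩)
      · right
        rw [eq_top_iff]
        intro y _
        obtain ⟨x, rfl⟩ := N.mkQ_surjective y
        obtain ⟨x', hx', hxx'⟩ : (x : V) ∈ U' := e.symm ▸ x.2
        rwa [show x' = x from Subtype.ext hxx'] at hx'
    · have h1 : (⊤ : Subgroup ↥HA) = Subgroup.closure (Subtype.val ⁻¹' TA) :=
        (Subgroup.closure_closure_coe_preimage (k := TA)).symm
      conv_lhs => rw [MonoidHom.range_eq_map, h1, MonoidHom.map_closure]
      rw [Subgroup.closure_le]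
      rintro _ ⟨⟨g, hg⟩, ⟨v, φ, hP, hv, hgx⟩, rfl⟩
      by_cases hv0 : v = 0
      · have : (⟨g, hg⟩ : ↥HA) = 1 :=
          Subtype.ext (LinearEquiv.ext fun x => by simp [hgx, hv0])
        rw [this, map_one]
        exact one_mem _
      have hPA : P HA v φ := ⟨hP.1, g, hg, hgx⟩
      refine Subgroup.subset_closure ⟨_, _, himage hPA hv hv0, fun y => ?_⟩
      obtain ⟨x, rfl⟩ := N.mkQ_surjective y
      rw [hρ, Submodule.mkQ_apply N x, Submodule.liftQ_apply, ← Submodule.mkQ_apply N x, ← map_smul,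
        ← map_add]
      exact congrArg N.mkQ (Subtype.ext (hgx x))
    · obtain ⟨g, ⟨v, φ, hP, hv, hgx⟩, hg1⟩ : ∃ g ∈ TA, g ≠ 1 := by
        by_contra hno
        push Not at hno
        have hA : HA ≤ pointwise' W :=
          (Subgroup.closure_le _).mpr fun g hg x _ => by rw [hno g hg]; rfl
        exact hgx₀ ((hHsup.trans (sup_le hA hBfix)) hg₀ x₀ hx₀)
      have hg : g ∈ HA := Subgroup.subset_closure ⟨v, φ, hP, hv, hgx⟩
      have hv0 : v ≠ 0 := fun e => hg1 (LinearEquiv.ext fun x => by simp [hgx, e])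
      have hPA : P HA v φ := ⟨hP.1, g, hg, hgx⟩
      have hne : ρ ⟨g, hg⟩ ≠ 1 := fun e =>
        hg1 (congrArg Subtype.val (hinj (e.trans (map_one ρ).symm)))
      have hρg : ∀ y, ρ ⟨g, hg⟩ y =
          y + N.liftQ (φ ∘ₗ W.subtype) (hker hPA hv0) y • N.mkQ ⟨v, hv⟩ := fun y => by
        obtain ⟨x, rfl⟩ := N.mkQ_surjective y
        rw [hρ, Submodule.mkQ_apply N x, Submodule.liftQ_apply, ← Submodule.mkQ_apply N x,
          ← map_smul, ← map_add]
        exact congrArg N.mkQ (Subtype.ext (hgx x))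
      exact ⟨_, fun e => hne (LinearEquiv.ext fun y => by simp [hρg, e]), _, himage hPA hv hv0,
        fun e => hne (LinearEquiv.ext fun y => by simp [hρg, e])⟩
  -- lift the generators
  haveI : Finite (↥W ⧸ N) := Finite.of_surjective _ N.mkQ_surjective
  obtain ⟨b, α, hbα, hαker, hmin⟩ := hX.exists_generators
  obtain ⟨v0, φ0, hP0, hv0W, hv00, hφ00, hmk0⟩ : ∃ (v0 : V) (φ0 : Dual (ZMod p) V)
      (hP0 : P HA v0 φ0) (hv0W : v0 ∈ W) (hv00 : v0 ≠ 0),
      N.liftQ (φ0 ∘ₗ W.subtype) (hker hP0 hv00) ≠ 0 ∧ N.mkQ ⟨v0, hv0W⟩ ≠ 0 := by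
    obtain ⟨g, ⟨v, φ, hP, hv, hgx⟩, hg1⟩ : ∃ g ∈ TA, g ≠ 1 := by
      by_contra hno
      push Not at hno
      have hA : HA ≤ pointwise' W :=
        (Subgroup.closure_le _).mpr fun g hg x _ => by rw [hno g hg]; rfl
      exact hgx₀ ((hHsup.trans (sup_le hA hBfix)) hg₀ x₀ hx₀)
    have hg : g ∈ HA := Subgroup.subset_closure ⟨v, φ, hP, hv, hgx⟩
    have hv0 : v ≠ 0 := fun e => hg1 (LinearEquiv.ext fun x => by simp [hgx, e])
    have hPA : P HA v φ := ⟨hP.1, g, hg, hgx⟩
    have hne : ρ ⟨g, hg⟩ ≠ 1 := fun e =>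
      hg1 (congrArg Subtype.val (hinj (e.trans (map_one ρ).symm)))
    have hρg : ∀ y, ρ ⟨g, hg⟩ y =
        y + N.liftQ (φ ∘ₗ W.subtype) (hker hPA hv0) y • N.mkQ ⟨v, hv⟩ := fun y => by
      obtain ⟨x, rfl⟩ := N.mkQ_surjective y
      rw [hρ, Submodule.mkQ_apply N x, Submodule.liftQ_apply, ← Submodule.mkQ_apply N x,
        ← map_smul, ← map_add]
      exact congrArg N.mkQ (Subtype.ext (hgx x))
    exact ⟨v, φ, hPA, hv, hv0, fun e => hne (LinearEquiv.ext fun y => by simp [hρg, e]),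
      fun e => hne (LinearEquiv.ext fun y => by simp [hρg, e])⟩
  have hlift : ∀ i, ∃ (v : ↥W) (φ : Dual (ZMod p) V), P HA (v : V) φ ∧ N.mkQ v = b i ∧
      ∀ x : ↥W, φ x = α i (N.mkQ x) := by
    intro i
    obtain ⟨gb, ⟨a, rfl⟩, hgv, c, hc⟩ :=
      hX.exists_conj hmk0 (himage hP0 hv0W hv00) hφ00 (b.ne_zero i) (hbα i).1
    refine ⟨σ a ⟨v0, hv0W⟩, c • (φ0 ∘ₗ ((a : V ≃ₗ[ZMod p] V).symm : V →ₗ[ZMod p] V)),
      (hP0.conj a.2).smul_axis c, by rw [← hρ]; exact hgv, fun x => ?_⟩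
    have hs : (ρ a).symm (N.mkQ x) = N.mkQ (σ a⁻¹ x) := by
      rw [LinearEquiv.symm_apply_eq, hρ, ← LinearEquiv.mul_apply, ← map_mul, mul_inv_cancel,
        map_one]
      rfl
    rw [hc]
    simp only [LinearMap.smul_apply, LinearMap.comp_apply, LinearEquiv.coe_coe, hs]
    rfl
  choose v φ hPv hvb hφα using hlift
  have hv0 : ∀ i, (v i : V) ≠ 0 := fun i e =>
    b.ne_zero i (by rw [← hvb, show v i = 0 from Subtype.ext e, map_zero])
  choose g hg hgx using fun i => (hPv i).2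
  have hHA' : HA = Subgroup.closure (Set.range g) := by
    refine le_antisymm ?_ ((Subgroup.closure_le _).mpr (by rintro _ ⟨i, rfl⟩; exact hg i))
    have := hmin ((((Subgroup.closure (Set.range g)).subgroupOf HA).map ρ))
      (Subgroup.map_le_range _ _) fun i => by
        refine ⟨(hbα i).1.1, ρ ⟨g i, hg i⟩, ⟨⟨g i, hg i⟩, Subgroup.subset_closure ⟨i, rfl⟩, rfl⟩,
          fun y => ?_⟩
        obtain ⟨x, rfl⟩ := N.mkQ_surjective y
        rw [hρ, ← hvb, ← hφα, ← map_smul, ← map_add]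
        exact congrArg N.mkQ (Subtype.ext (hgx i x))
    intro a ha
    obtain ⟨a', ha', he⟩ : ρ ⟨a, ha⟩ ∈ ((Subgroup.closure (Set.range g)).subgroupOf HA).map ρ :=
      this.symm ▸ ⟨_, rfl⟩
    rw [hinj he] at ha'
    exact ha'
  set WA := Submodule.span (ZMod p) (Set.range fun i => (v i : V)) with hWAdef
  set C : Submodule (ZMod p) V := LinearMap.ker (LinearMap.pi φ) with hCdef
  have hmemC : ∀ x, x ∈ C ↔ ∀ i, φ i x = 0 := fun x => by
    rw [hCdef, LinearMap.mem_ker, funext_iff]; rfl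
  have hWAW : WA ≤ W := Submodule.span_le.mpr (by rintro _ ⟨i, rfl⟩; exact (v i).2)
  have hlin : LinearIndependent (ZMod p) v :=
    LinearIndependent.of_comp N.mkQ (by
      have e : N.mkQ ∘ v = b := funext hvb
      rw [e]; exact b.linearIndependent)
  have hlin' : LinearIndependent (ZMod p) fun i => (v i : V) :=
    hlin.map' W.subtype W.ker_subtype
  have hWAdim : finrank (ZMod p) WA = (finrank (ZMod p) (↥W ⧸ N)) := by
    rw [finrank_span_eq_card hlin', Fintype.card_fin]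
  have hdisj : WA ⊓ C = ⊥ := by
    rw [Submodule.eq_bot_iff]
    rintro x ⟨hxA, hxC⟩
    obtain ⟨c, hc⟩ := (Submodule.mem_span_range_iff_exists_fun (ZMod p)).mp hxA
    have hx' : x = ((∑ i, c i • v i : ↥W) : V) := by simp [← hc]
    have h1 : N.mkQ (∑ i, c i • v i) = 0 := hαker _ fun j => by
      rw [← hφα, ← hx']; exact (hmemC x).mp hxC j
    have h2 : ∀ i, c i = 0 := by
      refine Fintype.linearIndependent_iff.mp b.linearIndependent c ?_
      rw [← h1, map_sum]
      exact Finset.sum_congr rfl fun i _ => by rw [map_smul, hvb]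
    simp [← hc, h2]
  have hCdim : finrank (ZMod p) V ≤ (finrank (ZMod p) (↥W ⧸ N)) + finrank (ZMod p) C := by
    have := LinearMap.finrank_range_add_finrank_ker (LinearMap.pi φ)
    have h2 := Submodule.finrank_le (LinearMap.range (LinearMap.pi φ))
    rw [Module.finrank_fin_fun] at h2
    rw [← hCdef] at this
    omega
  have hsum := Submodule.finrank_sup_add_finrank_inf_eq WA C
  rw [hdisj, finrank_bot, add_zero, hWAdim] at hsum
  have htop : WA ⊔ C = ⊤ := Submodule.eq_top_of_finrank_eq (by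
    have := Submodule.finrank_le (WA ⊔ C); omega)
  have hCfix : HA ≤ pointwise' C := by
    rw [hHA']
    refine (Subgroup.closure_le _).mpr ?_
    rintro _ ⟨i, rfl⟩ x hx
    rw [hgx, (hmemC x).mp hx i, zero_smul, add_zero]
  have hAdispl' : HA ≤ displ WA := by
    rw [hHA']
    refine (Subgroup.closure_le _).mpr ?_
    rintro _ ⟨i, rfl⟩ x
    rw [hgx, add_sub_cancel_left]
    exact WA.smul_mem _ (Submodule.subset_span ⟨i, rfl⟩)
  have hAinv : ∀ a ∈ HA, ∀ x ∈ WA, a x ∈ WA := fun a ha x hx => by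
    simpa using WA.add_mem (hAdispl' ha x) hx
  have hBdispl : HB ≤ displ C := by
    refine (Subgroup.closure_le _).mpr ?_
    rintro h ⟨w, ψ, hQ, hw, hhx⟩ x
    rw [hhx, add_sub_cancel_left]
    by_cases hψ : ψ = 0
    · simp [hψ]
    exact C.smul_mem _ ((hmemC w).mpr fun i =>
      hcross ((hPv i).mono hHAle) (v i).2 (hv0 i) hQ hw hψ)
  -- the classical factor
  have hclass : IsClassical HA WA := by
    let τ : ↥HA →* (↥WA ≃ₗ[ZMod p] ↥WA) := resHom HA WA hAinv
    let f : ↥WA →ₗ[ZMod p] (↥W ⧸ N) := N.mkQ ∘ₗ Submodule.inclusion hWAW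
    have hfb : ∀ i, f ⟨v i, Submodule.subset_span ⟨i, rfl⟩⟩ = b i := hvb
    have hfsurj : Function.Surjective f := by
      rw [← LinearMap.range_eq_top, eq_top_iff, ← b.span_eq, Submodule.span_le]
      rintro _ ⟨i, rfl⟩
      exact ⟨_, hfb i⟩
    have hfinj : Function.Injective f :=
      (LinearMap.injective_iff_surjective_of_finrank_eq_finrank hWAdim).mpr hfsurj
    have hfe : ∀ (a : ↥HA) (x : ↥WA), f (τ a x) = ρ a (f x) := fun a x => rfl
    let ψ : Fin (finrank (ZMod p) (↥W ⧸ N)) → Dual (ZMod p) ↥WA := fun i => φ i ∘ₗ WA.subtype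
    have hτg : ∀ i (x : ↥WA), τ ⟨g i, hg i⟩ x =
        x + ψ i x • (⟨v i, Submodule.subset_span ⟨i, rfl⟩⟩ : ↥WA) :=
      fun i x => Subtype.ext (hgx i x)
    have hPτ : ∀ i, P τ.range (⟨v i, Submodule.subset_span ⟨i, rfl⟩⟩ : ↥WA) (ψ i) :=
      fun i => ⟨(hPv i).1, _, ⟨_, rfl⟩, hτg i⟩
    have hyp : Hyp τ.range := by
      refine ⟨hH.odd, fun U hU => ?_, ?_, ?_⟩
      · rcases hX.irr (U.map f) (by
          rintro _ ⟨a, rfl⟩ _ ⟨x, hx, rfl⟩
          exact ⟨τ a x, hU _ ⟨a, rfl⟩ x hx, hfe a x⟩) with e | e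
        · exact Or.inl (Submodule.map_injective_of_injective hfinj (by rw [e, Submodule.map_bot]))
        · exact Or.inr (Submodule.map_injective_of_injective hfinj (by
            rw [e, Submodule.map_top, LinearMap.range_eq_top.mpr hfsurj]))
      · have h1 : (⊤ : Subgroup ↥HA) = Subgroup.closure (Subtype.val ⁻¹' Set.range g) := by
          apply Subgroup.map_injective HA.subtype_injective
          rw [← MonoidHom.range_eq_map, Subgroup.range_subtype, MonoidHom.map_closure,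
            Subgroup.coe_subtype, Set.image_preimage_eq_of_subset]
          · exact hHA'
          · rintro _ ⟨i, rfl⟩; exact ⟨⟨_, hg i⟩, rfl⟩
        conv_lhs => rw [MonoidHom.range_eq_map, h1, MonoidHom.map_closure]
        rw [Subgroup.closure_le]
        rintro _ ⟨⟨_, hgi⟩, ⟨i, rfl⟩, rfl⟩
        exact Subgroup.subset_closure ⟨_, _, hPτ i, hτg i⟩
      · have hm0 : 0 < (finrank (ZMod p) (↥W ⧸ N)) := by
          haveI : Nontrivial (↥W ⧸ N) := nontrivial_of_ne _ _ hmk0
          exact Module.finrank_pos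
        refine ⟨_, fun e => hv0 ⟨0, hm0⟩ (congrArg Subtype.val e), _, hPτ ⟨0, hm0⟩, fun e => ?_⟩
        refine (hbα ⟨0, hm0⟩).2 (LinearMap.ext fun y => ?_)
        obtain ⟨x, rfl⟩ := hfsurj y
        exact (hφα _ _).symm.trans (LinearMap.congr_fun e x)
    exact ⟨τ, fun a x => rfl, hyp.eq_classical⟩
  -- the rest
  have hm0 : 0 < (finrank (ZMod p) (↥W ⧸ N)) := by
    haveI : Nontrivial (↥W ⧸ N) := nontrivial_of_ne _ _ hmk0
    exact Module.finrank_pos
  haveI : Finite (V ≃ₗ[ZMod p] V) := Finite.of_injective _ DFunLike.coe_injective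
  have hlt : Nat.card ↥HB < Nat.card ↥H := by
    refine lt_of_le_of_ne (Subgroup.card_le_of_le hHBle) fun e => ?_
    have he := Subgroup.eq_of_le_of_card_ge hHBle e.ge
    have h1 : g ⟨0, hm0⟩ = 1 := by
      have h2 : g ⟨0, hm0⟩ ∈ pointwise' W := hBfix (he ▸ hHAle (hg _))
      refine congrArg Subtype.val (hinj (a₁ := ⟨_, hg _⟩) (a₂ := 1) ?_)
      rw [map_one]
      refine LinearEquiv.ext fun y => ?_
      obtain ⟨x, rfl⟩ := N.mkQ_surjective y
      rw [hρ, show σ ⟨_, hg _⟩ x = x from Subtype.ext (h2 x x.2)]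
      rfl
    have hφ0 : φ ⟨0, hm0⟩ = 0 := LinearMap.ext fun x => by
      have := hgx ⟨0, hm0⟩ x
      rw [h1, LinearEquiv.coe_one, id_eq, left_eq_add, smul_eq_zero] at this
      exact this.resolve_right (hv0 _)
    refine (hbα ⟨0, hm0⟩).2 (LinearMap.ext fun y => ?_)
    obtain ⟨x, rfl⟩ := N.mkQ_surjective y
    rw [← hφα, hφ0]
    rfl
  have hGB : Gen HB := by
    refine ⟨hH.odd, (Subgroup.closure_le _).mpr ?_, fun M hM hnorm hexp => ?_⟩
    · rintro t ⟨w, ψ, hQ, hw, htx⟩
      exact Subgroup.subset_closure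
        ⟨w, ψ, ⟨hQ.1, t, Subgroup.subset_closure ⟨w, ψ, hQ, hw, htx⟩, htx⟩, htx⟩
    · refine hH.red M (hM.trans hHBle) ?_ hexp
      have hle : H ≤ Subgroup.normalizer (M : Set (V ≃ₗ[ZMod p] V)) := by
        refine hHsup.trans (sup_le (fun a ha => ?_) (fun c hc => ?_))
        · rw [Subgroup.mem_normalizer_iff]
          intro x
          constructor
          · intro hx
            rwa [(hcomm a ha x (hM hx)).eq, mul_inv_cancel_right]
          · intro hx
            have h1 := (hcomm a⁻¹ (inv_mem ha) _ (hM hx)).eq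
            have : x = a * x * a⁻¹ := by
              calc x = a⁻¹ * (a * x * a⁻¹) * a := by group
                _ = a * x * a⁻¹ * a⁻¹ * a := by rw [h1]
                _ = a * x * a⁻¹ := by group
            rwa [← this] at hx
        · rw [Subgroup.mem_normalizer_iff]
          intro x
          exact ⟨fun hx => hnorm c hc x hx, fun hx => by
            have := hnorm c⁻¹ (inv_mem hc) _ hx
            group at this
            exact this⟩
      exact fun h hh x hx => (Subgroup.mem_normalizer_iff.mp (hle hh) x).mp hx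
  obtain ⟨k, WB, KB, hKle, hKsup, hKcomm, hKfix, hKinv, hKdispl, hKtop, hKdim, hKcl⟩ :=
    ih (Nat.card ↥HB) hlt rfl hGB
  have hfix : fixed H = C ⊓ fixed HB := by
    ext x
    constructor
    · intro hx
      refine ⟨(hmemC x).mpr fun i => ?_, fun h hh => hx h (hHBle hh)⟩
      have := hx _ (hHAle (hg i))
      rw [hgx, add_eq_left, smul_eq_zero] at this
      exact this.resolve_right (hv0 i)
    · rintro ⟨hxC, hxB⟩ h hh
      exact (hHsup.trans (sup_le (c := pointwise' (Submodule.span (ZMod p) {x}))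
        (fun a ha y hy => by
          obtain ⟨c, rfl⟩ := Submodule.mem_span_singleton.mp hy
          rw [map_smul, hCfix ha x hxC])
        (fun a ha y hy => by
          obtain ⟨c, rfl⟩ := Submodule.mem_span_singleton.mp hy
          rw [map_smul, hxB a ha]))) hh x (Submodule.mem_span_singleton_self x)
  have hWAfix : WA ≤ fixed HB := fun x hx h hh => hBfix hh x (hWAW hx)
  have hfixB : fixed HB = WA ⊔ fixed H := by
    rw [hfix, ← sup_inf_assoc_of_le C hWAfix, htop, top_inf_eq]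
  have hWBC : ∀ j, WB j ≤ C := hKdispl C hBdispl
  refine ⟨k + 1, Fin.cons WA WB, Fin.cons HA KB, ?_, ?_, ?_, ?_, ?_, ?_, ?_, ?_, ?_⟩
  · exact Fin.cases (by simpa using hHAle) fun j => by simpa using (hKle j).trans hHBle
  · refine hHsup.trans (sup_le ?_ (hKsup.trans (iSup_le fun j => ?_)))
    · exact le_iSup_of_le 0 (by simp)
    · exact le_iSup_of_le j.succ (by simp)
  · refine Fin.cases (Fin.cases (fun h => absurd rfl h) fun j _ => ?_) fun i => Fin.cases ?_ ?_
    · simp only [Fin.cons_zero, Fin.cons_succ]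
      exact fun a ha c hc => hcomm a ha c (hKle j hc)
    · simp only [Fin.cons_zero, Fin.cons_succ]
      exact fun _ a ha c hc => (hcomm c hc a (hKle i ha)).symm
    · intro j hij
      simp only [Fin.cons_succ]
      exact hKcomm i j (fun e => hij (by rw [e]))
  · refine Fin.cases (Fin.cases (fun h => absurd rfl h) fun j _ => ?_) fun i => Fin.cases ?_ ?_
    · simp only [Fin.cons_zero, Fin.cons_succ]
      exact fun a ha x hx => hBfix (hKle j ha) x (hWAW hx)
    · simp only [Fin.cons_zero, Fin.cons_succ]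
      exact fun _ a ha x hx => hCfix ha x (hWBC i hx)
    · intro j hij
      simp only [Fin.cons_succ]
      exact hKfix i j (fun e => hij (by rw [e]))
  · exact Fin.cases (by simpa using hAinv) fun j => by simpa using hKinv j
  · intro U hU
    refine Fin.cases ?_ fun j => ?_
    · rw [Fin.cons_zero, hWAdef, Submodule.span_le]
      rintro _ ⟨i, rfl⟩
      obtain ⟨x, hx⟩ : ∃ x, φ i x ≠ 0 := by
        by_contra hno
        push Not at hno
        refine (hbα i).2 (LinearMap.ext fun y => ?_)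
        obtain ⟨x, rfl⟩ := N.mkQ_surjective y
        exact (hφα i x).symm.trans (hno x)
      have := hU (hHAle (hg i)) x
      rw [hgx, add_sub_cancel_left] at this
      exact (U.smul_mem_iff hx).mp this
    · rw [Fin.cons_succ]
      exact hKdispl U (hHBle.trans hU) j
  · refine eq_top_iff.mpr (hKtop.ge.trans (sup_le ?_ (iSup_le fun j => ?_)))
    · rw [hfixB]
      exact sup_le (le_sup_of_le_right (le_iSup_of_le 0 (by simp))) le_sup_left
    · exact le_sup_of_le_right (le_iSup_of_le j.succ (by simp))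
  · have h1 := Submodule.finrank_sup_add_finrank_inf_eq WA (fixed H)
    rw [← hfixB, show WA ⊓ fixed H = ⊥ from le_bot_iff.mp (hdisj ▸ inf_le_inf_left _
      (hfix.le.trans inf_le_left)), finrank_bot, add_zero] at h1
    rw [Fin.sum_univ_succ]
    show finrank (ZMod p) (fixed H) + (finrank (ZMod p) WA + ∑ i, finrank (ZMod p) (WB i)) = _
    omega
  · exact Fin.cases (by simpa using hclass) fun j => by simpa using hKcl j

end CfsgLib.McLaughlinTV
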