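import Cfsg.Agent.McLaughlinTV.Core

/-!
# All transvections, or the symplectic ones
-/

set_option autoImplicit false
set_option linter.unusedSectionVars false
set_option linter.style.haveILetI false

namespace CfsgLib.McLaughlinTV

open Module

variable {p : ℕ} [Fact p.Prime] {X : Type*} [AddCommGroup X] [Module (ZMod p) X] [Finite X]
variable {K : Subgroup (X ≃ₗ[ZMod p] X)}

namespace Hyp

variable (h : Hyp K)
include h

theorem ax_dim_pos {v : X} (hv : v ≠ 0) : 1 ≤ finrank (ZMod p) (Ax K v) := by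
  haveI : Module.Finite (ZMod p) X := Module.Finite.of_finite
  obtain ⟨-, φ, hP, hφ⟩ := h.centre hv
  refine Submodule.one_le_finrank_iff.mpr fun e => hφ ?_
  exact (Submodule.eq_bot_iff _).mp e φ hP

/-- With two independent axes, all transvections are present. -/
theorem full (hd : ∀ v : X, v ≠ 0 → 2 ≤ finrank (ZMod p) (Ax K v)) :
    ∀ (v : X) (φ : Dual (ZMod p) X), φ v = 0 → P K v φ := by
  haveI : Module.Finite (ZMod p) X := Module.Finite.of_finite
  intro v φ hφ
  by_cases hv : v = 0
  · subst hv; exact P_zero_centre φ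
  -- non-adjacent vectors have the same axes
  have hsame : ∀ v x : X, v ≠ 0 → x ≠ 0 → ¬ Adj K v x → Ax K x = Ax K v := by
    intro v x hv hx hna
    refine (Submodule.eq_of_le_of_finrank_eq ?_ (h.finrank_eq' hx hv)).symm
    have hpart : ∀ w, Adj K v w → Adj K x w → ∀ δ ∈ Ax K v, δ w = 0 → δ ∈ Ax K x := by
      intro w hvw hxw δ hδ hδw
      obtain ⟨ψ, hPw, hψv⟩ := h.symm' hv hvw
      have h1 : P K w δ := hPw.shift hδ hδw hψv
      obtain ⟨χ, hPx, hχw⟩ := hxw
      exact hPx.shift h1 (h.not_adj_apply hna hδ) hχw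
    obtain ⟨w, -, hvw, hxw⟩ := h.exists_common (h.centre hv) (h.centre hx)
    obtain ⟨δ, hδ, hδw, hδ0⟩ : ∃ δ ∈ Ax K v, δ w = 0 ∧ δ ≠ 0 := by
      obtain ⟨η, hη, hηw⟩ := hvw
      by_contra hno
      push Not at hno
      have hle : Ax K v ≤ Submodule.span (ZMod p) {η} := by
        intro α hα
        have := hno (α - (α w / η w) • η) ((Ax K v).sub_mem hα ((Ax K v).smul_mem _ hη)) (by
          simp [hηw])
        rw [sub_eq_zero] at this
        rw [this]
        exact Submodule.smul_mem _ _ (Submodule.mem_span_singleton_self η)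
      have := (hd v hv).trans ((Submodule.finrank_mono hle).trans (finrank_span_le_card _))
      simp at this
    obtain ⟨u, hu⟩ : ∃ u, δ u ≠ 0 := by
      by_contra hno
      push Not at hno
      exact hδ0 (LinearMap.ext hno)
    have hδx : δ ∈ Ax K x := hpart w hvw hxw δ hδ hδw
    have hvu : Adj K v u := ⟨δ, hδ, hu⟩
    have hxu : Adj K x u := ⟨δ, hδx, hu⟩
    intro α hα
    have h1 := hpart u hvu hxu (α - (α u / δ u) • δ) ((Ax K v).sub_mem hα ((Ax K v).smul_mem _ hδ))
      (by simp [hu])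
    simpa using (Ax K x).add_mem h1 ((Ax K x).smul_mem (α u / δ u) hδx)
  -- the common zeros of the axes of `v`
  obtain ⟨w, hw, hvw⟩ := h.exists_adj (h.centre hv)
  set U := (Ax K v).dualCoannihilator with hU
  set U' := (Ax K w).dualCoannihilator with hU'
  have hdisj : U ⊓ U' = ⊥ := by
    rw [Submodule.eq_bot_iff]
    intro x hx
    by_contra hx0
    obtain ⟨hxU, hxU'⟩ := Submodule.mem_inf.mp hx
    rw [hU, Submodule.mem_dualCoannihilator] at hxU
    rw [hU', Submodule.mem_dualCoannihilator] at hxU'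
    have e1 := hsame v x hv hx0 (fun ⟨η, hη, hne⟩ => hne (hxU η hη))
    have e2 := hsame w x hw.1 hx0 (fun ⟨η, hη, hne⟩ => hne (hxU' η hη))
    obtain ⟨η, hη, hne⟩ := hvw
    have hmem : η ∈ Ax K w := by rw [← e2, e1]; exact hη
    exact hne (mem_Ax.mp hmem).1
  have hdim : finrank (ZMod p) (Ax K v) + finrank (ZMod p) U = finrank (ZMod p) X :=
    Subspace.finrank_add_finrank_dualCoannihilator_eq _
  have hdim' : finrank (ZMod p) (Ax K w) + finrank (ZMod p) U' = finrank (ZMod p) X :=
    Subspace.finrank_add_finrank_dualCoannihilator_eq _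
  have heq := h.finrank_eq' hv hw.1
  have hsum := Submodule.finrank_sup_add_finrank_inf_eq U U'
  rw [hdisj, finrank_bot, add_zero] at hsum
  obtain ⟨η, hη, hηw⟩ := hvw
  obtain ⟨ψ, hψ, hψv⟩ := h.symm' hv ⟨η, hη, hηw⟩
  set D := Ax K v ⊓ Ax K w with hD
  have hsup : U ⊔ U' ≤ D.dualCoannihilator :=
    sup_le (Submodule.dualCoannihilator_anti inf_le_left) (Submodule.dualCoannihilator_anti inf_le_right)
  have hDdim : finrank (ZMod p) D + finrank (ZMod p) D.dualCoannihilator = finrank (ZMod p) X :=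
    Subspace.finrank_add_finrank_dualCoannihilator_eq _
  have hDbig : finrank (ZMod p) (Ax K v) ≤ finrank (ZMod p) D + 1 := by
    have hle : Ax K v ≤ D ⊔ Submodule.span (ZMod p) {η} := by
      intro α hα
      have hα' : α - (α w / η w) • η ∈ Ax K v := (Ax K v).sub_mem hα ((Ax K v).smul_mem _ hη)
      have h0 : (α - (α w / η w) • η) w = 0 := by simp [hηw]
      have h1 : α - (α w / η w) • η ∈ D := ⟨hα', P.shift hψ hα' h0 hψv⟩
      exact Submodule.mem_sup.mpr ⟨_, h1, _, Submodule.smul_mem _ _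
        (Submodule.mem_span_singleton_self η), sub_add_cancel _ _⟩
    refine (Submodule.finrank_mono hle).trans ?_
    refine le_trans (Submodule.finrank_add_le_finrank_add_finrank _ _) ?_
    have : finrank (ZMod p) (Submodule.span (ZMod p) {η}) ≤ 1 := by
      refine (finrank_span_le_card _).trans ?_
      simp
    omega
  have hmono := Submodule.finrank_mono hsup
  have hUone : finrank (ZMod p) U ≤ 1 := by omega
  have hvU : v ∈ U := by
    rw [hU, Submodule.mem_dualCoannihilator]
    exact fun α hα => (mem_Ax.mp hα).1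
  have hspan : U = Submodule.span (ZMod p) {v} := by
    refine (Submodule.eq_of_le_of_finrank_le ((Submodule.span_singleton_le_iff_mem v U).mpr hvU) ?_).symm
    rw [finrank_span_singleton hv]; exact hUone
  have hmem : φ ∈ U.dualAnnihilator := by
    rw [hspan, Submodule.mem_dualAnnihilator]
    intro x hx
    obtain ⟨a, rfl⟩ := Submodule.mem_span_singleton.mp hx
    rw [map_smul, hφ, smul_zero]
  rw [hU, Subspace.dualCoannihilator_dualAnnihilator_eq] at hmem
  exact hmem

/-- With one axis for each centre, the axes are given by an alternating form. -/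
theorem alternating (hd : ∀ v : X, v ≠ 0 → finrank (ZMod p) (Ax K v) = 1) :
    ∃ B : LinearMap.BilinForm (ZMod p) X, B.IsAlt ∧ B.Nondegenerate ∧
      ∀ v φ, v ≠ 0 → (P K v φ ↔ ∃ c : ZMod p, φ = c • B v) := by
  classical
  haveI : Module.Finite (ZMod p) X := Module.Finite.of_finite
  -- axes of one centre are proportional
  have hline : ∀ {v : X} {φ ψ : Dual (ZMod p) X}, v ≠ 0 → P K v φ → φ ≠ 0 → P K v ψ →
      ∃ c : ZMod p, ψ = c • φ := by
    intro v φ ψ hv hP hφ hψ
    obtain ⟨c, hc⟩ := (finrank_eq_one_iff_of_nonzero' (⟨φ, hP⟩ : Ax K v)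
      (fun e => hφ (congrArg Subtype.val e))).mp (hd v hv) ⟨ψ, hψ⟩
    exact ⟨c, (congrArg Subtype.val hc).symm⟩
  choose φ hφ using fun v : {v : X // v ≠ 0} => (h.centre v.2).2
  have hzero : ∀ (a b : {v : X // v ≠ 0}), φ a b = 0 → φ b a = 0 := by
    intro a b hab
    by_contra hne
    obtain ⟨ψ, hψ, hψb⟩ := h.symm' b.2 ⟨φ b, (hφ b).1, hne⟩
    obtain ⟨c, rfl⟩ := hline a.2 (hφ a).1 (hφ a).2 hψ
    exact hψb (by simp [hab])
  obtain ⟨e0, he0⟩ := h.ne
  set e : {v : X // v ≠ 0} := ⟨e0, he0.1⟩
  set η := φ e with hη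
  let A : {v : X // v ≠ 0} → Dual (ZMod p) X := fun x => (-(η x) / φ x e) • φ x
  have hU : ∀ x : {v : X // v ≠ 0}, η x ≠ 0 → φ x e ≠ 0 := fun x hx h0 => hx (hzero x e h0)
  have hAP : ∀ x : {v : X // v ≠ 0}, P K (x : X) (A x) := fun x => (hφ x).1.smul_axis _
  have hAe : ∀ x : {v : X // v ≠ 0}, η x ≠ 0 → A x e = -(η x) := fun x hx => by
    simp [A, div_mul_cancel₀ _ (hU x hx)]
  have hA0 : ∀ x : {v : X // v ≠ 0}, η x ≠ 0 → A x ≠ 0 := fun x hx e' => hx (by
    simpa [e'] using hAe x hx)
  -- the conjugate of `(a, A a)` by a power of `(b, A b)`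
  have hcomb : ∀ a b : {v : X // v ≠ 0}, η a ≠ 0 → η b ≠ 0 → A b a ≠ 0 → ∀ k : ZMod p,
      ∃ g ∈ K, g a = (a : X) + k • (b : X) ∧
        P K ((a : X) + k • (b : X)) (A a - (k / A b a * A a b) • A b) := by
    intro a b ha hb hba k
    obtain ⟨-, g, hg, hgx⟩ := (hAP b).smul_axis (k / A b a)
    have hga : g a = (a : X) + k • (b : X) := by
      rw [hgx, LinearMap.smul_apply, smul_eq_mul, div_mul_cancel₀ k hba]
    refine ⟨g, hg, hga, ?_⟩
    have := (hAP a).conj hg
    rw [hga] at this
    convert this using 1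
    refine LinearMap.ext fun x => ?_
    have h1 : g.symm x = x - ((k / A b a) • A b) x • (b : X) :=
      symm_apply_of ((hAP b).smul_axis _).1 hgx x
    simp only [LinearMap.sub_apply, LinearMap.smul_apply, LinearMap.comp_apply,
      LinearEquiv.coe_coe, h1, map_sub, map_smul, smul_eq_mul]
    ring
  have hanti : ∀ a b : {v : X // v ≠ 0}, η a ≠ 0 → η b ≠ 0 → A a b = -(A b a) := by
    intro a b ha hb
    by_cases hba : A b a = 0
    · have : φ b a = 0 := by
        by_contra hne
        exact hA0 b hb (by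
          have : -(η b) / φ b e = 0 := by simpa [A, hne] using hba
          simp [A, this])
      simp [hba, A, hzero b a this]
    set k := -(η a) / η b with hk
    obtain ⟨g, hg, hga, hP⟩ := hcomb a b ha hb hba k
    set x0 : X := (a : X) + k • (b : X)
    have hx0 : x0 ≠ 0 := hga ▸ (by simpa using a.2)
    have hηx : η x0 = 0 := by simp [x0, hk, hb]
    set ψ := A a - (k / A b a * A a b) • A b
    have hψe : ψ e = 0 := by
      by_contra hne
      obtain ⟨χ, hχ, hχ0⟩ := h.symm' hx0 ⟨ψ, hP, hne⟩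
      obtain ⟨c, rfl⟩ := hline e.2 (hφ e).1 (hφ e).2 hχ
      exact hχ0 (by simp [← hη, hηx])
    simp only [ψ, LinearMap.sub_apply, LinearMap.smul_apply, hAe a ha, hAe b hb, smul_eq_mul, hk]
      at hψe
    field_simp at hψe
    have hfac : η a * (A a b + A b a) = 0 := by linear_combination -hψe
    exact eq_neg_of_add_eq_zero_left ((mul_eq_zero.mp hfac).resolve_left ha)
  have hsum : ∀ a b : {v : X // v ≠ 0}, η a ≠ 0 → η b ≠ 0 → A a b ≠ 0 →
      P K ((a : X) + (b : X)) (A a + A b) := by
    intro a b ha hb hab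
    have hba : A b a ≠ 0 := fun e' => hab (by rw [hanti a b ha hb, e', neg_zero])
    obtain ⟨g, -, -, hP⟩ := hcomb a b ha hb hba 1
    rw [one_smul, hanti a b ha hb] at hP
    convert hP using 1
    rw [show (1 / A b a * -(A b a)) = (-1 : ZMod p) by field_simp, ]
    module
  -- a linear extension
  set S : Set X := {x | η x ≠ 0} with hS
  obtain ⟨z, hz⟩ : ∃ z, η z ≠ 0 := by
    by_contra hno
    push Not at hno
    exact (hφ e).2 (LinearMap.ext hno)
  have hspan : Submodule.span (ZMod p) S = ⊤ := by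
    refine eq_top_iff.mpr fun x _ => ?_
    by_cases hx : η x = 0
    · have : x = (x + z) - z := by abel
      rw [this]
      exact Submodule.sub_mem _ (Submodule.subset_span (by simp [hS, hx, hz]))
        (Submodule.subset_span hz)
    · exact Submodule.subset_span hx
  let b := Basis.ofSpan hspan.ge
  have hbS : ∀ i, η (b i) ≠ 0 := fun i =>
    Basis.ofSpan_subset hspan.ge ⟨i, rfl⟩
  have hne : ∀ x : X, η x ≠ 0 → x ≠ 0 := fun x hx h0 => hx (by rw [h0, map_zero])
  let B : LinearMap.BilinForm (ZMod p) X :=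
    b.constr (ZMod p) fun i => A ⟨b i, hne _ (hbS i)⟩
  have hBA : ∀ x : {v : X // v ≠ 0}, η x ≠ 0 → B x = A x := by
    intro x hx
    refine LinearMap.ext_on hspan fun y hy => ?_
    set y' : {v : X // v ≠ 0} := ⟨y, hne y hy⟩
    have h1 : (LinearMap.flip B y) = -(A y') := by
      refine b.ext fun i => ?_
      show B (b i) y = -(A y' (b i))
      simp only [B, Basis.constr_basis]
      exact hanti ⟨b i, hne _ (hbS i)⟩ y' (hbS i) hy
    have h2 : B x y = -(A y' x) := LinearMap.congr_fun h1 x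
    rw [h2, ← hanti x y' hx hy]
  have hanti' : ∀ x y, B x y = -(B y x) := by
    have : LinearMap.flip B = -B := by
      refine LinearMap.ext_on hspan fun x hx => LinearMap.ext_on hspan fun y hy => ?_
      show B y x = -(B x y)
      rw [hBA ⟨y, hne y hy⟩ hy, hBA ⟨x, hne x hx⟩ hx]
      exact hanti ⟨y, hne y hy⟩ ⟨x, hne x hx⟩ hy hx
    intro x y
    exact LinearMap.congr_fun (LinearMap.congr_fun this y) x
  have halt : B.IsAlt := fun x => by
    have h1 : B x x + B x x = 0 := by nth_rewrite 1 [hanti' x x]; exact neg_add_cancel _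
    rw [← two_mul, mul_eq_zero] at h1
    exact h1.resolve_left (two_ne_zero' h.odd)
  have haxis : ∀ x : X, x ≠ 0 → P K x (B x) ∧ B x ≠ 0 := by
    intro x hx
    by_cases hηx : η x = 0
    · obtain ⟨a, ha, hxa⟩ : ∃ a, η a ≠ 0 ∧ φ ⟨x, hx⟩ a ≠ 0 := by
        by_contra hno
        push Not at hno
        exact (hφ ⟨x, hx⟩).2 (LinearMap.ext_on hspan fun a ha => hno a ha)
      have hb : η (x - a) ≠ 0 := by simpa [map_sub, hηx] using ha
      set a' : {v : X // v ≠ 0} := ⟨a, hne a ha⟩
      set b' : {v : X // v ≠ 0} := ⟨x - a, hne _ hb⟩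
      have hab : A a' b' ≠ 0 := by
        intro h0
        have h4 : A a' a = 0 := (hAP a').1
        have h2 : A a' x = 0 := by
          have h5 := h0
          rw [show (b' : X) = x - a from rfl, map_sub, h4, sub_zero] at h5
          exact h5
        have h1 : φ a' x = 0 := by
          by_contra hne'
          exact hA0 a' ha (by
            have : -(η a) / φ a' e = 0 := by simpa [A, a', hne'] using h2
            simp [A, a', this])
        exact hxa (hzero a' ⟨x, hx⟩ h1)
      have hP := hsum a' b' ha hb hab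
      have hBeq : B x = A a' + A b' := by
        rw [← hBA a' ha, ← hBA b' hb, ← map_add]
        exact congrArg B (add_sub_cancel a x).symm
      rw [show (a' : X) + (b' : X) = x from add_sub_cancel a x, ← hBeq] at hP
      refine ⟨hP, fun h0 => hab ?_⟩
      have h3 := LinearMap.congr_fun h0 a
      rw [hBeq] at h3
      simp only [LinearMap.add_apply, LinearMap.zero_apply] at h3
      rw [show A a' a = 0 from (hAP a').1, zero_add] at h3
      rw [hanti a' b' ha hb, show (a' : X) = a from rfl, h3, neg_zero]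
    · rw [hBA ⟨x, hx⟩ hηx]
      exact ⟨hAP _, hA0 ⟨x, hx⟩ hηx⟩
  refine ⟨B, halt, ?_, fun v ψ hv => ⟨fun hP => hline hv (haxis v hv).1 (haxis v hv).2 hP, ?_⟩⟩
  · refine ⟨fun x hx => ?_, fun y hy => ?_⟩
    · by_contra hx0
      exact (haxis x hx0).2 (LinearMap.ext hx)
    · by_contra hy0
      exact (haxis y hy0).2 (LinearMap.ext fun z => by rw [hanti' y z, hy z, neg_zero]; rfl)
  · rintro ⟨c, rfl⟩
    exact (haxis v hv).1.smul_axis c

/-- The dichotomy. -/
theorem dichotomy :
    ((∀ (v : X) (φ : Dual (ZMod p) X), φ v = 0 → P K v φ) ∧ 3 ≤ finrank (ZMod p) X) ∨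
      ∃ B : LinearMap.BilinForm (ZMod p) X, B.IsAlt ∧ B.Nondegenerate ∧
        ∀ v φ, v ≠ 0 → (P K v φ ↔ ∃ c : ZMod p, φ = c • B v) := by
  haveI : Module.Finite (ZMod p) X := Module.Finite.of_finite
  obtain ⟨e, he⟩ := h.ne
  rcases Nat.lt_or_ge (finrank (ZMod p) (Ax K e)) 2 with hlt | hge
  · refine Or.inr (h.alternating fun v hv => ?_)
    rw [h.finrank_eq' he.1 hv]
    have := h.ax_dim_pos he.1
    omega
  · refine Or.inl ⟨h.full fun v hv => by rw [h.finrank_eq' he.1 hv]; exact hge, ?_⟩
    have hle : Submodule.span (ZMod p) {e} ≤ (Ax K e).dualCoannihilator := by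
      rw [Submodule.span_singleton_le_iff_mem, Submodule.mem_dualCoannihilator]
      exact fun α hα => (mem_Ax.mp hα).1
    have := Submodule.finrank_mono hle
    rw [finrank_span_singleton he.1] at this
    have := Subspace.finrank_add_finrank_dualCoannihilator_eq (Ax K e)
    omega

end Hyp

end CfsgLib.McLaughlinTV
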