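import Cfsg.Agent.McLaughlinTV.Dichotomy

/-!
# The groups, small generating sets, and transitivity on transvection pairs
-/

set_option autoImplicit false
set_option linter.unusedSectionVars false
set_option linter.style.haveILetI false

namespace CfsgLib.McLaughlinTV

open Module
open Fin.NatCast

variable {p : ℕ} [Fact p.Prime] {X : Type*} [AddCommGroup X] [Module (ZMod p) X] [Finite X]
variable {K : Subgroup (X ≃ₗ[ZMod p] X)}

theorem mem_of_all (hall : ∀ (v : X) (φ : Dual (ZMod p) X), φ v = 0 → P K v φ)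
    {g : X ≃ₗ[ZMod p] X} (hg : LinearMap.det (g : X →ₗ[ZMod p] X) = 1) : g ∈ K := by
  haveI : Module.Finite (ZMod p) X := Module.Finite.of_finite
  suffices key : ∀ (d : ℕ) (U : Submodule (ZMod p) X), finrank (ZMod p) U + d = finrank (ZMod p) X →
      ∀ g : X ≃ₗ[ZMod p] X, LinearMap.det (g : X →ₗ[ZMod p] X) = 1 → (∀ x ∈ U, g x = x) → g ∈ K from
    key (finrank (ZMod p) X) ⊥ (by simp) g hg fun x hx => by
      rw [(Submodule.mem_bot _).mp hx, map_zero]
  intro d
  induction d with
  | zero =>
    intro U hU g _ hfix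
    have htop : U = ⊤ := Submodule.eq_top_of_finrank_eq (by omega)
    rw [show g = 1 from LinearEquiv.ext fun x => hfix x (htop ▸ Submodule.mem_top)]
    exact one_mem K
  | succ d ih =>
    intro U hU g hdet hfix
    obtain ⟨e, -, he⟩ : ∃ e ∈ (⊤ : Submodule (ZMod p) X), e ∉ U :=
      SetLike.exists_of_lt (lt_top_iff_ne_top.mpr (fun h => by rw [h, finrank_top] at hU; omega))
    have hdim : finrank (ZMod p) (U ⊔ Submodule.span (ZMod p) {e} : Submodule (ZMod p) X) =
        finrank (ZMod p) U + 1 :=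
      Submodule.finrank_sup_span_singleton he
    by_cases hd : d = 0
    · -- `g` is a transvection
      subst hd
      have htop : U ⊔ Submodule.span (ZMod p) {e} = ⊤ := Submodule.eq_top_of_finrank_eq (by omega)
      obtain ⟨φ, hφe, hφU⟩ := Submodule.exists_dual_map_eq_bot_of_notMem he inferInstance
      rw [← LinearMap.le_ker_iff_map] at hφU
      set ψ := (φ e)⁻¹ • φ
      have hψe : ψ e = 1 := by simp [ψ, hφe]
      have hgx : ∀ x, g x = x + ψ x • (g e - e) := by
        intro x
        obtain ⟨u, hu, y, hy, rfl⟩ := Submodule.mem_sup.mp (htop ▸ Submodule.mem_top :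
          x ∈ U ⊔ Submodule.span (ZMod p) {e})
        obtain ⟨a, rfl⟩ := Submodule.mem_span_singleton.mp hy
        have hψu : ψ u = 0 := by simp [ψ, LinearMap.mem_ker.mp (hφU hu)]
        simp only [map_add, map_smul, hfix u hu, hψu, hψe, smul_eq_mul, mul_one, zero_add]
        module
      have hker : ψ (g e - e) = 0 := by
        have e2 : (g : X →ₗ[ZMod p] X) = LinearMap.transvection ψ (g e - e) :=
          LinearMap.ext fun x => by rw [LinearMap.transvection.apply]; exact hgx x
        rw [e2, LinearMap.transvection.det] at hdet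
        linear_combination hdet
      obtain ⟨-, g', hg', hg'x⟩ := hall (g e - e) ψ hker
      rwa [show g = g' from LinearEquiv.ext fun x => by rw [hgx, hg'x]]
    -- move `g e` to `e` fixing `U`
    have move : ∀ a b : X, a ∉ U → b ∉ U ⊔ Submodule.span (ZMod p) {a} →
        ∃ t ∈ K, LinearMap.det (t : X →ₗ[ZMod p] X) = 1 ∧ (∀ x ∈ U, t x = x) ∧ t a = b := by
      intro a b ha hb
      have ha' : a ∉ U ⊔ Submodule.span (ZMod p) {b - a} := by
        intro h
        obtain ⟨u, hu, y, hy, e'⟩ := Submodule.mem_sup.mp h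
        obtain ⟨c, rfl⟩ := Submodule.mem_span_singleton.mp hy
        by_cases hc : c = 0
        · rw [hc, zero_smul, add_zero] at e'; exact ha (e' ▸ hu)
        refine hb (Submodule.mem_sup.mpr ⟨-(c⁻¹ • u), U.neg_mem (U.smul_mem _ hu),
          (1 + c⁻¹) • a, Submodule.smul_mem _ _ (Submodule.mem_span_singleton_self a), ?_⟩)
        have h2 : c⁻¹ • a = c⁻¹ • u + (b - a) := by
          conv_lhs => rw [← e']
          rw [smul_add, inv_smul_smul₀ hc]
        rw [add_smul, one_smul, h2]
        abel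
      obtain ⟨φ, hφa, hφU⟩ := Submodule.exists_dual_map_eq_bot_of_notMem ha' inferInstance
      rw [← LinearMap.le_ker_iff_map] at hφU
      have h0 : ((φ a)⁻¹ • φ) (b - a) = 0 := by
        rw [LinearMap.smul_apply, show φ (b - a) = 0 from LinearMap.mem_ker.mp
          (hφU (Submodule.mem_sup_right (Submodule.mem_span_singleton_self _))), smul_zero]
      obtain ⟨-, t, ht, htx⟩ := hall (b - a) _ h0
      refine ⟨t, ht, ?_, fun x hx => ?_, ?_⟩
      · rw [show (t : X →ₗ[ZMod p] X) = LinearMap.transvection ((φ a)⁻¹ • φ) (b - a) from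
          LinearMap.ext fun x => by rw [LinearMap.transvection.apply]; exact htx x,
          LinearMap.transvection.det, h0, add_zero]
      · rw [htx, LinearMap.smul_apply, LinearMap.mem_ker.mp (hφU (Submodule.mem_sup_left hx)),
          smul_zero, zero_smul, add_zero]
      · rw [htx, LinearMap.smul_apply, smul_eq_mul, inv_mul_cancel₀ hφa, one_smul,
          add_sub_cancel]
    have hge : g e ∉ U := fun h => he (by
      have := hfix _ h
      rwa [g.injective this] at h)
    obtain ⟨z, hzg, hze⟩ : ∃ z, z ∉ U ⊔ Submodule.span (ZMod p) {g e} ∧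
        z ∉ U ⊔ Submodule.span (ZMod p) {e} := by
      have h1 : U ⊔ Submodule.span (ZMod p) {g e} ≠ ⊤ := fun h => by
        have := Submodule.finrank_sup_span_singleton (K := ZMod p) hge
        rw [h, finrank_top] at this
        omega
      have h2 : U ⊔ Submodule.span (ZMod p) {e} ≠ ⊤ := fun h => by
        rw [h, finrank_top] at hdim; omega
      by_contra hno
      push Not at hno
      by_cases hle : U ⊔ Submodule.span (ZMod p) {e} ≤ U ⊔ Submodule.span (ZMod p) {g e}
      · refine h1 (eq_top_iff.mpr fun z _ => ?_)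
        by_contra hz
        exact hz (hle (hno z hz))
      · obtain ⟨a, ha, ha'⟩ := SetLike.not_le_iff_exists.mp hle
        refine h2 (eq_top_iff.mpr fun z _ => ?_)
        by_contra hz
        have hz1 : z ∈ U ⊔ Submodule.span (ZMod p) {g e} := by
          by_contra hz1; exact hz (hno z hz1)
        have hza : z + a ∉ U ⊔ Submodule.span (ZMod p) {g e} := fun h3 => ha' (by
          simpa using Submodule.sub_mem _ h3 hz1)
        exact hz (by simpa using Submodule.sub_mem _ (hno _ hza) ha)
    obtain ⟨t, ht, htd, htU, hte⟩ := move (g e) z hge hzg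
    have hz0 : z ∉ U := fun h => hze (Submodule.mem_sup_left h)
    have hez : e ∉ U ⊔ Submodule.span (ZMod p) {z} := by
      intro h
      obtain ⟨u, hu, y, hy, e'⟩ := Submodule.mem_sup.mp h
      obtain ⟨c, rfl⟩ := Submodule.mem_span_singleton.mp hy
      by_cases hc : c = 0
      · rw [hc, zero_smul, add_zero] at e'; exact he (e' ▸ hu)
      refine hze (Submodule.mem_sup.mpr ⟨-(c⁻¹ • u), U.neg_mem (U.smul_mem _ hu),
        c⁻¹ • e, Submodule.smul_mem _ _ (Submodule.mem_span_singleton_self e), ?_⟩)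
      conv_lhs => rw [← e']
      rw [smul_add, inv_smul_smul₀ hc, neg_add_cancel_left]
    obtain ⟨t', ht', htd', htU', hte'⟩ := move z e hz0 hez
    have hmem : t' * t * g ∈ K := by
      refine ih (U ⊔ Submodule.span (ZMod p) {e}) (by omega) _ ?_ ?_
      · rw [LinearEquiv.coe_toLinearMap_mul, LinearEquiv.coe_toLinearMap_mul, map_mul, map_mul,
          htd, htd', hdet]
        simp
      · intro x hx
        obtain ⟨u, hu, y, hy, rfl⟩ := Submodule.mem_sup.mp hx
        obtain ⟨c, rfl⟩ := Submodule.mem_span_singleton.mp hy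
        simp only [LinearEquiv.mul_apply, map_add, map_smul, hfix u hu, htU u hu, htU' u hu, hte,
          hte']
    have := mul_mem (inv_mem (mul_mem ht' ht)) hmem
    rwa [inv_mul_cancel_left] at this

theorem mem_of_alt {B : LinearMap.BilinForm (ZMod p) X} (halt : B.IsAlt) (hnd : B.Nondegenerate)
    (hall : ∀ (v : X) (c : ZMod p), P K v (c • B v)) {g : X ≃ₗ[ZMod p] X}
    (hg : ∀ x y, B (g x) (g y) = B x y) : g ∈ K := by
  haveI : Module.Finite (ZMod p) X := Module.Finite.of_finite
  have hneg : ∀ x y, B y x = -(B x y) := fun x y => (halt.neg_eq x y).symm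
  suffices key : ∀ (d : ℕ) (U : Submodule (ZMod p) X), finrank (ZMod p) U + d = finrank (ZMod p) X →
      ∀ g : X ≃ₗ[ZMod p] X, (∀ x y, B (g x) (g y) = B x y) → (∀ x ∈ U, g x = x) → g ∈ K from
    key (finrank (ZMod p) X) ⊥ (by simp) g hg fun x hx => by
      rw [(Submodule.mem_bot _).mp hx, map_zero]
  intro d
  induction d with
  | zero =>
    intro U hU g _ hfix
    have htop : U = ⊤ := Submodule.eq_top_of_finrank_eq (by omega)
    rw [show g = 1 from LinearEquiv.ext fun x => hfix x (htop ▸ Submodule.mem_top)]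
    exact one_mem K
  | succ d ih =>
    intro U hU g hiso hfix
    obtain ⟨e, -, he⟩ : ∃ e ∈ (⊤ : Submodule (ZMod p) X), e ∉ U :=
      SetLike.exists_of_lt (lt_top_iff_ne_top.mpr (fun h => by rw [h, finrank_top] at hU; omega))
    have hdim : finrank (ZMod p) (U ⊔ Submodule.span (ZMod p) {e} : Submodule (ZMod p) X) =
        finrank (ZMod p) U + 1 :=
      Submodule.finrank_sup_span_singleton he
    -- a symplectic transvection fixing `U` with `a ↦ b`
    have move : ∀ a b : X, (∀ u ∈ U, B u (b - a) = 0) → B a b ≠ 0 →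
        ∃ t ∈ K, (∀ x y, B (t x) (t y) = B x y) ∧ (∀ x ∈ U, t x = x) ∧ t a = b := by
      intro a b hperp hab
      obtain ⟨-, t, ht, htx⟩ := hall (b - a) (-(B a b)⁻¹)
      refine ⟨t, ht, fun x y => ?_, fun x hx => ?_, ?_⟩
      · simp only [htx, map_add, map_smul, LinearMap.add_apply, LinearMap.smul_apply, smul_eq_mul]
        rw [show B (b - a) (b - a) = 0 from halt _, hneg (b - a) x]
        ring
      · rw [htx, LinearMap.smul_apply, hneg x (b - a), hperp x hx]
        simp
      · rw [htx, LinearMap.smul_apply, hneg a (b - a), map_sub, show B a a = 0 from halt _,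
          sub_zero, neg_smul, smul_eq_mul, mul_neg, inv_mul_cancel₀ hab, neg_neg, one_smul,
          add_sub_cancel]
    have hge : g e ∉ U := fun h => he (by
      have := hfix _ h
      rwa [g.injective this] at h)
    have hperp : ∀ u ∈ U, B u (g e - e) = 0 := fun u hu => by
      rw [map_sub, sub_eq_zero]
      nth_rewrite 1 [← hfix u hu]
      rw [hiso]
    obtain ⟨t, ht, htiso, htU, hte⟩ : ∃ t ∈ K, (∀ x y, B (t x) (t y) = B x y) ∧
        (∀ x ∈ U, t x = x) ∧ t (g e) = e := by
      by_cases hB : B (g e) e = 0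
      swap
      · exact move (g e) e (fun u hu => by rw [← neg_sub, map_neg, hperp u hu, neg_zero]) hB
      -- an intermediate vector
      obtain ⟨w, hwU, hw1, hw2⟩ : ∃ w ∈ B.orthogonal U, B e w ≠ 0 ∧ B (g e) w ≠ 0 := by
        have hout : ∀ a, a ∉ U → ∃ w ∈ B.orthogonal U, B a w ≠ 0 := by
          intro a ha
          by_contra hno
          push Not at hno
          refine ha ?_
          rw [← LinearMap.BilinForm.orthogonal_orthogonal hnd halt.isRefl U]
          intro w hw
          exact halt.isRefl _ _ (hno w hw)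
        obtain ⟨w1, hw1U, hw1⟩ := hout e he
        obtain ⟨w2, hw2U, hw2⟩ := hout (g e) hge
        by_cases h1 : B (g e) w1 = 0
        · by_cases h2 : B e w2 = 0
          · exact ⟨w1 + w2, add_mem hw1U hw2U, by simp [h2, hw1], by simp [h1, hw2]⟩
          · exact ⟨w2, hw2U, h2, hw2⟩
        · exact ⟨w1, hw1U, hw1, h1⟩
      obtain ⟨t1, ht1, hi1, hU1, he1⟩ := move (g e) (e + w) (fun u hu => by
        rw [show e + w - g e = w - (g e - e) by abel, map_sub, hperp u hu, sub_zero]
        exact hwU u hu) (by rw [map_add, hB, zero_add]; exact hw2)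
      obtain ⟨t2, ht2, hi2, hU2, he2⟩ := move (e + w) e (fun u hu => by
        rw [show e - (e + w) = -w by abel, map_neg, hwU u hu, neg_zero]) (by
        rw [map_add, LinearMap.add_apply, show B e e = 0 from halt _, zero_add, hneg e w]
        exact neg_ne_zero.mpr hw1)
      exact ⟨t2 * t1, mul_mem ht2 ht1, fun x y => by simp [hi1, hi2],
        fun x hx => by simp [hU1 x hx, hU2 x hx], by simp [he1, he2]⟩
    have hmem : t * g ∈ K := by
      refine ih (U ⊔ Submodule.span (ZMod p) {e}) (by omega) _ (fun x y => by simp [htiso, hiso])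
        fun x hx => ?_
      obtain ⟨u, hu, y, hy, rfl⟩ := Submodule.mem_sup.mp hx
      obtain ⟨c, rfl⟩ := Submodule.mem_span_singleton.mp hy
      simp only [LinearEquiv.mul_apply, map_add, map_smul, hfix u hu, htU u hu, hte]
    have := mul_mem (inv_mem ht) hmem
    rwa [inv_mul_cancel_left] at this

/-- Invariant subspaces of a group containing connected transvection pairs on a basis. -/
theorem irr_of_pairs {n : ℕ} (b : Basis (Fin n) (ZMod p) X) (α : Fin n → Dual (ZMod p) X)
    (hP : ∀ i, P K (b i) (α i)) (hker : ∀ x, (∀ i, α i x = 0) → x = 0)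
    (hconn : ∀ i j, Relation.ReflTransGen (fun i j => α j (b i) ≠ 0) i j)
    {U : Submodule (ZMod p) X} (hU : ∀ g ∈ K, ∀ x ∈ U, g x ∈ U) : U = ⊥ ∨ U = ⊤ := by
  refine or_iff_not_imp_left.mpr fun hne => ?_
  obtain ⟨x, hx, hx0⟩ := Submodule.exists_mem_ne_zero_of_ne_bot hne
  have step : ∀ i y, y ∈ U → α i y ≠ 0 → b i ∈ U := by
    intro i y hy hi
    obtain ⟨-, g, hg, hgx⟩ := hP i
    have := U.sub_mem (hU g hg y hy) hy
    rw [hgx, add_sub_cancel_left] at this
    exact (U.smul_mem_iff hi).mp this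
  obtain ⟨i, hi⟩ : ∃ i, α i x ≠ 0 := by
    by_contra hno; push Not at hno; exact hx0 (hker x hno)
  have all : ∀ j, b j ∈ U := fun j => by
    induction hconn i j with
    | refl => exact step i x hx hi
    | tail _ hbc ih => exact step _ _ ih hbc
  rw [eq_top_iff, ← b.span_eq, Submodule.span_le]
  rintro _ ⟨j, rfl⟩
  exact all j

namespace Hyp

variable (h : Hyp K)
include h

theorem det_eq_one {g : X ≃ₗ[ZMod p] X} (hg : g ∈ K) : LinearMap.det (g : X →ₗ[ZMod p] X) = 1 := by
  haveI : Module.Finite (ZMod p) X := Module.Finite.of_finite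
  have h1 : K ≤ (LinearEquiv.det : (X ≃ₗ[ZMod p] X) →* (ZMod p)ˣ).ker := by
    refine h.gen.trans ((Subgroup.closure_le _).mpr ?_)
    rintro t ⟨v, φ, hP, hx⟩
    refine Units.ext ?_
    rw [LinearEquiv.coe_det, show (t : X →ₗ[ZMod p] X) = LinearMap.transvection φ v from
      LinearMap.ext fun x => by rw [LinearMap.transvection.apply]; exact hx x,
      LinearMap.transvection.det, hP.1, add_zero]
    rfl
  have := congrArg Units.val (MonoidHom.mem_ker.mp (h1 hg))
  rwa [LinearEquiv.coe_det] at this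

/-- The group is the special linear group or a symplectic group. -/
theorem eq_classical :
    ((K : Set (X ≃ₗ[ZMod p] X)) = {f : X ≃ₗ[ZMod p] X | LinearMap.det (f : X →ₗ[ZMod p] X) = 1}) ∨
      ∃ B : LinearMap.BilinForm (ZMod p) X, B.IsAlt ∧ B.Nondegenerate ∧
        (K : Set (X ≃ₗ[ZMod p] X)) = {f | ∀ x y, B (f x) (f y) = B x y} := by
  rcases h.dichotomy with ⟨hall, -⟩ | ⟨B, halt, hnd, hP⟩
  · exact Or.inl (Set.ext fun g => ⟨h.det_eq_one, mem_of_all hall⟩)
  refine Or.inr ⟨B, halt, hnd, Set.ext fun g => ⟨fun hg => ?_, mem_of_alt halt hnd fun v c => ?_⟩⟩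
  · show ∀ x y, B (g x) (g y) = B x y
    have hcl := h.gen hg
    clear hg
    induction hcl using Subgroup.closure_induction with
    | mem t ht =>
      obtain ⟨v, φ, hPv, hx⟩ := ht
      intro x y
      by_cases hv : v = 0
      · simp [hx, hv]
      obtain ⟨c, rfl⟩ := (hP v φ hv).mp hPv
      simp only [hx, map_add, map_smul, LinearMap.add_apply, LinearMap.smul_apply, smul_eq_mul]
      rw [show B v v = 0 from halt v, show B x v = -(B v x) from (halt.neg_eq v x).symm]
      ring
    | one => simp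
    | mul a b _ _ iha ihb => intro x y; simp [iha, ihb]
    | inv a _ iha =>
      intro x y
      show B (a.symm x) (a.symm y) = B x y
      rw [← iha, a.apply_symm_apply, a.apply_symm_apply]
  · by_cases hv : v = 0
    · rw [hv]; exact P_zero_centre _
    · exact (hP v _ hv).mpr ⟨c, rfl⟩

/-- The group is generated by `finrank X` of its transvections, with centres forming a basis. -/
theorem exists_generators :
    ∃ (b : Basis (Fin (finrank (ZMod p) X)) (ZMod p) X)
      (α : Fin (finrank (ZMod p) X) → Dual (ZMod p) X),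
      (∀ i, P K (b i) (α i) ∧ α i ≠ 0) ∧ (∀ x, (∀ i, α i x = 0) → x = 0) ∧
        ∀ K' ≤ K, (∀ i, P K' (b i) (α i)) → K' = K := by
  classical
  haveI : Module.Finite (ZMod p) X := Module.Finite.of_finite
  obtain ⟨e, he⟩ := h.ne
  -- if a subgroup has all the pairs it is everything
  have habs : ∀ K' ≤ K, (∀ v φ, v ≠ 0 → P K v φ → P K' v φ) → K' = K := by
    intro K' hle hpairs
    refine le_antisymm hle (h.gen.trans ((Subgroup.closure_le _).mpr ?_))
    rintro g ⟨v, φ, hP, hgx⟩
    by_cases hv : v = 0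
    · rw [show g = 1 from LinearEquiv.ext fun x => by simp [hgx, hv]]; exact one_mem K'
    obtain ⟨-, g', hg', hg'x⟩ := hpairs v φ hv hP
    rwa [show g = g' from LinearEquiv.ext fun x => by rw [hgx, hg'x]]
  -- the hypotheses for a subgroup containing the pairs
  have hyp : ∀ (b : Basis (Fin (finrank (ZMod p) X)) (ZMod p) X) (α : _ → Dual (ZMod p) X),
      (∀ x, (∀ i, α i x = 0) → x = 0) →
      (∀ i j, Relation.ReflTransGen (fun i j => α j (b i) ≠ 0) i j) → (∀ i, α i ≠ 0) →
      ∀ K' : Subgroup (X ≃ₗ[ZMod p] X), (∀ i, P K' (b i) (α i)) →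
        ∃ K'' ≤ K', Hyp K'' ∧ ∀ i, P K'' (b i) (α i) := by
    intro b α hker hconn hα K' hP
    choose hz g hg hgx using hP
    refine ⟨Subgroup.closure (Set.range g), (Subgroup.closure_le _).mpr (by
      rintro _ ⟨i, rfl⟩; exact hg i), ?_, fun i => ⟨hz i, g i, Subgroup.subset_closure ⟨i, rfl⟩, hgx i⟩⟩
    have hP' : ∀ i, P (Subgroup.closure (Set.range g)) (b i) (α i) :=
      fun i => ⟨hz i, g i, Subgroup.subset_closure ⟨i, rfl⟩, hgx i⟩
    refine ⟨h.odd, fun U hU => irr_of_pairs b α hP' hker hconn hU, ?_, ?_⟩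
    · refine Subgroup.closure_mono ?_
      rintro _ ⟨i, rfl⟩
      exact ⟨b i, α i, hP' i, hgx i⟩
    · have hn : 0 < finrank (ZMod p) X := by
        rw [Module.finrank_pos_iff_exists_ne_zero]; exact ⟨e, he.1⟩
      exact ⟨b ⟨0, hn⟩, b.ne_zero _, α _, hP' _, hα _⟩
  rcases h.dichotomy with ⟨hall, hn⟩ | ⟨B, halt, hnd, hP⟩
  · set n := finrank (ZMod p) X with hn'
    haveI : NeZero n := ⟨by omega⟩
    let b : Basis (Fin n) (ZMod p) X := Module.finBasis (ZMod p) X
    let α : Fin n → Dual (ZMod p) X := fun i => b.coord (i + 1)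
    have hαb : ∀ i j : Fin n, α i (b j) = if j = i + 1 then 1 else 0 := fun i j => by
      simp [α, Finsupp.single_apply]
    have hne1 : ∀ i : Fin n, i ≠ i + 1 := fun i e' => by
      have h1 : ((1 : Fin n) : ℕ) = 0 := congrArg Fin.val (left_eq_add.mp e')
      rw [Fin.val_one', Nat.mod_eq_of_lt (by omega)] at h1
      omega
    have hne2 : ∀ i : Fin n, i ≠ i + 1 + 1 := fun i e' => by
      rw [add_assoc] at e'
      have h1 : (((1 : Fin n) + 1 : Fin n) : ℕ) = 0 := congrArg Fin.val (left_eq_add.mp e')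
      rw [Fin.val_add, Fin.val_one', Nat.mod_eq_of_lt (show 1 < n by omega),
        Nat.mod_eq_of_lt (by omega)] at h1
      omega
    have hPb : ∀ i, P K (b i) (α i) := fun i => hall _ _ (by rw [hαb, if_neg (hne1 i)])
    have hα : ∀ i, α i ≠ 0 := fun i e' => by
      have := LinearMap.congr_fun e' (b (i + 1))
      rw [hαb, if_pos rfl] at this
      exact one_ne_zero this
    have hker : ∀ x, (∀ i, α i x = 0) → x = 0 := fun x hx => by
      rw [← b.repr.map_eq_zero_iff]
      ext i
      have := hx (i - 1)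
      simpa [α, sub_add_cancel] using this
    have hconn : ∀ i j, Relation.ReflTransGen (fun i j => α j (b i) ≠ 0) i j := by
      have hstep : ∀ (k : ℕ) (i : Fin n),
          Relation.ReflTransGen (fun i j => α j (b i) ≠ 0) i (i - (k : Fin n)) := by
        intro k
        induction k with
        | zero => intro i; simp only [Nat.cast_zero, sub_zero]; exact .refl
        | succ k ih =>
          intro i
          refine (ih i).tail ?_
          rw [hαb, if_pos]
          · exact one_ne_zero
          · rw [Nat.cast_succ]; abel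
      intro i j
      have := hstep (i - j).val i
      rwa [Fin.cast_val_eq_self, sub_sub_cancel] at this
    refine ⟨b, α, fun i => ⟨hPb i, hα i⟩, hker, fun K' hle hP' => ?_⟩
    obtain ⟨K'', hK'', hHyp, hP''⟩ := hyp b α hker hconn hα K' hP'
    refine habs K' hle fun v φ _ hPv => ?_
    rcases hHyp.dichotomy with ⟨hall', -⟩ | ⟨B', halt', -, hB'⟩
    · exact (hall' v φ hPv.1).mono hK''
    · exfalso
      obtain ⟨c, hc⟩ := (hB' (b 0) (α 0) (b.ne_zero _)).mp (hP'' 0)
      obtain ⟨c', hc'⟩ := (hB' (b (0 + 1)) (α (0 + 1)) (b.ne_zero _)).mp (hP'' (0 + 1))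
      have e1 := LinearMap.congr_fun hc (b (0 + 1))
      have e2 := LinearMap.congr_fun hc' (b (0 + 1 + 1))
      have e3 := LinearMap.congr_fun hc' (b 0)
      rw [hαb, if_pos rfl, LinearMap.smul_apply, smul_eq_mul] at e1 e2
      rw [hαb, if_neg (hne2 0), LinearMap.smul_apply, smul_eq_mul,
        ← halt'.neg_eq (b 0) (b (0 + 1)), mul_neg, eq_comm, neg_eq_zero, mul_eq_zero] at e3
      rcases e3 with e3 | e3
      · rw [e3, zero_mul] at e2; exact one_ne_zero e2
      · rw [e3, mul_zero] at e1; exact one_ne_zero e1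
  · have hBne : ∀ v, v ≠ 0 → B v ≠ 0 := fun v hv h0 => hv (hnd.1 v fun y => by rw [h0]; rfl)
    -- a basis through `e` all of whose other members are moved by `B e`
    obtain ⟨z, hz⟩ : ∃ z, B e z ≠ 0 := by
      by_contra hno; push Not at hno; exact he.1 (hnd.1 e hno)
    set S : Set X := insert e {x | B e x ≠ 0}
    have hspan : Submodule.span (ZMod p) S = ⊤ := by
      refine eq_top_iff.mpr fun x _ => ?_
      by_cases hx : B e x = 0
      · rw [show x = (x + z) - z by abel]
        exact Submodule.sub_mem _ (Submodule.subset_span (Or.inr (by simpa [hx] using hz)))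
          (Submodule.subset_span (Or.inr hz))
      · exact Submodule.subset_span (Or.inr hx)
    have hli : LinearIndepOn (ZMod p) id ({e} : Set X) := LinearIndepOn.singleton (v := id) he.1
    obtain ⟨s, hsS, hes, hsspan, hsli⟩ :=
      exists_linearIndepOn_id_extension hli (Set.singleton_subset_iff.mpr (Set.mem_insert e _) :
        ({e} : Set X) ⊆ S)
    have htop : ⊤ ≤ Submodule.span (ZMod p) (Set.range (fun x : s => (x : X))) := by
      rw [Subtype.range_coe_subtype, Set.setOf_mem_eq, ← hspan, Submodule.span_le]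
      exact hsspan
    let b0 : Basis s (ZMod p) X := Basis.mk hsli htop
    haveI : Fintype s := Fintype.ofFinite s
    let eq0 : s ≃ Fin (finrank (ZMod p) X) :=
      Fintype.equivFinOfCardEq (Module.finrank_eq_card_basis b0).symm
    let b := b0.reindex eq0
    have hbS : ∀ i, b i ∈ S := fun i => by
      rw [Basis.reindex_apply, show b0 (eq0.symm i) = ((eq0.symm i : s) : X) from Basis.mk_apply hsli htop _]
      exact hsS (eq0.symm i).2
    set i0 := eq0 ⟨e, hes rfl⟩
    have hi0 : b i0 = e := by simp [b, i0, b0]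
    let α : Fin (finrank (ZMod p) X) → Dual (ZMod p) X := fun i => B (b i)
    have hPb : ∀ i, P K (b i) (α i) := fun i => (hP _ _ (b.ne_zero i)).mpr ⟨1, (one_smul _ _).symm⟩
    have hker : ∀ x, (∀ i, α i x = 0) → x = 0 := fun x hx => by
      refine hnd.2 x fun y => ?_
      have : LinearMap.flip B x = 0 := b.ext fun i => by simpa [α] using hx i
      exact LinearMap.congr_fun this y
    have hconn : ∀ i j, Relation.ReflTransGen (fun i j => α j (b i) ≠ 0) i j := by
      have h1 : ∀ i, Relation.ReflTransGen (fun i j => α j (b i) ≠ 0) i i0 ∧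
          Relation.ReflTransGen (fun i j => α j (b i) ≠ 0) i0 i := by
        intro i
        rcases hbS i with hb | hb
        · have : i = i0 := b.injective (by rw [hb, hi0])
          subst this; exact ⟨.refl, .refl⟩
        · refine ⟨.single ?_, .single ?_⟩
          · show B (b i0) (b i) ≠ 0
            rwa [hi0]
          · show B (b i) (b i0) ≠ 0
            rw [hi0, ← halt.neg_eq e]
            exact neg_ne_zero.mpr hb
      exact fun i j => (h1 i).1.trans (h1 j).2
    refine ⟨b, α, fun i => ⟨hPb i, hBne _ (b.ne_zero i)⟩, hker, fun K' hle hP' => ?_⟩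
    obtain ⟨K'', hK'', hHyp, hP''⟩ := hyp b α hker hconn (fun i => hBne _ (b.ne_zero i)) K' hP'
    refine habs K' hle fun v φ hv hPv => ?_
    obtain ⟨c, rfl⟩ := (hP v φ hv).mp hPv
    obtain ⟨-, χ, hχ, hχ0⟩ := hHyp.centre hv
    obtain ⟨c', hc'⟩ := (hP v χ hv).mp ((hχ.mono hK'').mono hle)
    have hc0 : c' ≠ 0 := fun e' => hχ0 (by rw [hc', e', zero_smul])
    have : c • B v = (c / c') • χ := by rw [hc', smul_smul, div_mul_cancel₀ c hc0]
    rw [this]
    exact (hχ.mono hK'').smul_axis _

/-- Transitivity on transvections, up to powers. -/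
theorem exists_conj {v0 v : X} {φ0 φ : Dual (ZMod p) X} (hv0 : v0 ≠ 0) (h0 : P K v0 φ0)
    (hφ0 : φ0 ≠ 0) (hv : v ≠ 0) (hP : P K v φ) :
    ∃ g ∈ K, g v0 = v ∧ ∃ c : ZMod p, φ = c • (φ0 ∘ₗ (g.symm : X →ₗ[ZMod p] X)) := by
  haveI : Module.Finite (ZMod p) X := Module.Finite.of_finite
  obtain ⟨g, hg, hgv⟩ := h.exists_map hv0 hv
  set φ' := φ0 ∘ₗ (g.symm : X →ₗ[ZMod p] X) with hφ'
  have hP' : P K v φ' := hgv ▸ h0.conj hg
  have hφ'0 : φ' ≠ 0 := fun e' => hφ0 (LinearMap.ext fun x => by
    simpa [hφ'] using LinearMap.congr_fun e' (g x))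
  by_cases hdep : ∃ c : ZMod p, φ = c • φ'
  · exact ⟨g, hg, hgv, hdep⟩
  rcases h.dichotomy with ⟨hall, -⟩ | ⟨B, -, -, hB⟩
  swap
  · exfalso
    obtain ⟨c, hc⟩ := (hB v φ hv).mp hP
    obtain ⟨c', hc'⟩ := (hB v φ' hv).mp hP'
    have hc0 : c' ≠ 0 := fun e' => hφ'0 (by rw [hc', e', zero_smul])
    exact hdep ⟨c / c', by rw [hc, hc', smul_smul, div_mul_cancel₀ c hc0]⟩
  obtain ⟨y, hy, hy'⟩ : ∃ y, φ' y = 0 ∧ φ y ≠ 0 := by
    by_contra hno
    push Not at hno
    refine hdep ?_
    obtain ⟨z, hz⟩ : ∃ z, φ' z ≠ 0 := by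
      by_contra hno'; push Not at hno'; exact hφ'0 (LinearMap.ext hno')
    refine ⟨φ z / φ' z, LinearMap.ext fun x => ?_⟩
    have := hno (x - (φ' x / φ' z) • z) (by simp [hz])
    rw [map_sub, map_smul, sub_eq_zero] at this
    rw [this, LinearMap.smul_apply, smul_eq_mul, smul_eq_mul]
    ring
  obtain ⟨z, hz⟩ : ∃ z, φ' z = 1 := by
    obtain ⟨z, hz⟩ : ∃ z, φ' z ≠ 0 := by
      by_contra hno'; push Not at hno'; exact hφ'0 (LinearMap.ext hno')
    exact ⟨(φ' z)⁻¹ • z, by simp [hz]⟩
  set w := z + ((1 - φ z) / φ y) • y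
  have hw' : φ' w = 1 := by simp [w, hy, hz]
  have hw : φ w = 1 := by simp [w, hy']
  set χ := φ' - φ with hχ
  obtain ⟨-, t, ht, htx⟩ := hall w χ (by simp [hχ, hw, hw'])
  refine ⟨t * g, mul_mem ht hg, ?_, 1, ?_⟩
  · rw [LinearEquiv.mul_apply, hgv, htx, hχ, LinearMap.sub_apply, hP'.1, hP.1, sub_zero,
      zero_smul, add_zero]
  · refine LinearMap.ext fun x => ?_
    show φ x = (1 : ZMod p) • φ0 (g.symm (t.symm x))
    rw [one_smul, symm_apply_of (by simp [hχ, hw, hw']) htx]
    show φ x = φ' (x - χ x • w)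
    rw [map_sub, map_smul, hw', smul_eq_mul, mul_one, hχ, LinearMap.sub_apply]
    ring

end Hyp

end CfsgLib.McLaughlinTV
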