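import Mathlib

/-!
# Transvection pairs in a linear group over a prime field

`P K v φ` says that `x ↦ x + φ x • v` (with `φ v = 0`) lies in `K`; `Ax K v` is the space of axes
of the centre `v`, and `Adj K v w` says that some transvection with centre `v` moves `w`.
-/

set_option autoImplicit false

namespace CfsgLib.McLaughlinTV

open Module

variable {p : ℕ} [Fact p.Prime] {X : Type*} [AddCommGroup X] [Module (ZMod p) X]

/-- The transvection with centre `v` and axis `φ` lies in `K`. -/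
def P (K : Subgroup (X ≃ₗ[ZMod p] X)) (v : X) (φ : Dual (ZMod p) X) : Prop :=
  φ v = 0 ∧ ∃ g ∈ K, ∀ x, g x = x + φ x • v

/-- Some transvection of `K` with centre `v` moves `w`. -/
def Adj (K : Subgroup (X ≃ₗ[ZMod p] X)) (v w : X) : Prop := ∃ φ, P K v φ ∧ φ w ≠ 0

/-- `v` is a centre. -/
def Centre (K : Subgroup (X ≃ₗ[ZMod p] X)) (v : X) : Prop := v ≠ 0 ∧ ∃ φ, P K v φ ∧ φ ≠ 0

variable {K : Subgroup (X ≃ₗ[ZMod p] X)}

theorem P.mono {K' : Subgroup (X ≃ₗ[ZMod p] X)} (h : K ≤ K') {v : X} {φ : Dual (ZMod p) X}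
    (hp : P K v φ) : P K' v φ := by
  obtain ⟨h0, g, hg, hx⟩ := hp
  exact ⟨h0, g, h hg, hx⟩

theorem P_zero_axis (v : X) : P K v (0 : Dual (ZMod p) X) :=
  ⟨rfl, 1, one_mem K, fun x => by simp⟩

theorem P_zero_centre (φ : Dual (ZMod p) X) : P K (0 : X) φ :=
  ⟨map_zero φ, 1, one_mem K, fun x => by simp⟩

theorem P.add_axis {v : X} {φ ψ : Dual (ZMod p) X} (h : P K v φ) (h' : P K v ψ) :
    P K v (φ + ψ) := by
  obtain ⟨h0, g, hg, hx⟩ := h
  obtain ⟨h0', g', hg', hx'⟩ := h'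
  refine ⟨by simp [h0, h0'], g * g', mul_mem hg hg', fun x => ?_⟩
  rw [LinearEquiv.mul_apply, hx, hx', map_add, map_smul, h0, smul_zero, add_zero,
    LinearMap.add_apply, add_smul]
  abel

theorem P.nsmul_axis {v : X} {φ : Dual (ZMod p) X} (h : P K v φ) (m : ℕ) : P K v (m • φ) := by
  induction m with
  | zero => rw [zero_smul]; exact P_zero_axis v
  | succ m ih => rw [succ_nsmul]; exact ih.add_axis h

theorem P.smul_axis {v : X} {φ : Dual (ZMod p) X} (h : P K v φ) (a : ZMod p) : P K v (a • φ) := by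
  rw [← ZMod.natCast_zmod_val a, Nat.cast_smul_eq_nsmul]
  exact h.nsmul_axis _

theorem P.smul_centre {v : X} {φ : Dual (ZMod p) X} (h : P K v φ) (a : ZMod p) :
    P K (a • v) φ := by
  obtain ⟨-, g, hg, hx⟩ := h.smul_axis a
  refine ⟨by rw [map_smul, h.1, smul_zero], g, hg, fun x => ?_⟩
  rw [hx, LinearMap.smul_apply, smul_eq_mul, mul_comm, mul_smul]

theorem P.of_smul_centre {v : X} {φ : Dual (ZMod p) X} {a : ZMod p} (ha : a ≠ 0)
    (h : P K (a • v) φ) : P K v φ := by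
  have := h.smul_centre a⁻¹
  rwa [inv_smul_smul₀ ha] at this

theorem P.add_centre {v w : X} {φ : Dual (ZMod p) X} (h : P K v φ) (h' : P K w φ) :
    P K (v + w) φ := by
  obtain ⟨h0, g, hg, hx⟩ := h
  obtain ⟨h0', g', hg', hx'⟩ := h'
  refine ⟨by rw [map_add, h0, h0', add_zero], g * g', mul_mem hg hg', fun x => ?_⟩
  rw [LinearEquiv.mul_apply, hx, hx', map_add, map_smul, h0', smul_zero, add_zero, smul_add]
  abel

theorem P.conj {v : X} {φ : Dual (ZMod p) X} (h : P K v φ) {g : X ≃ₗ[ZMod p] X} (hg : g ∈ K) :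
    P K (g v) (φ ∘ₗ (g.symm : X →ₗ[ZMod p] X)) := by
  obtain ⟨h0, t, ht, hx⟩ := h
  refine ⟨by simp [h0], g * t * g⁻¹, mul_mem (mul_mem hg ht) (inv_mem hg), fun x => ?_⟩
  show g (t (g.symm x)) = x + φ (g.symm x) • g v
  rw [hx, map_add, map_smul, g.apply_symm_apply]

theorem symm_apply_of {g : X ≃ₗ[ZMod p] X} {v : X} {φ : Dual (ZMod p) X} (h0 : φ v = 0)
    (hx : ∀ x, g x = x + φ x • v) (x : X) : g.symm x = x - φ x • v := by
  rw [LinearEquiv.symm_apply_eq, hx, map_sub, map_smul, h0, smul_zero, sub_zero, sub_add_cancel]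

/-- The space of axes of a centre. -/
def Ax (K : Subgroup (X ≃ₗ[ZMod p] X)) (v : X) : Submodule (ZMod p) (Dual (ZMod p) X) where
  carrier := {φ | P K v φ}
  add_mem' := P.add_axis
  zero_mem' := P_zero_axis v
  smul_mem' a _ h := P.smul_axis h a

theorem mem_Ax {v : X} {φ : Dual (ZMod p) X} : φ ∈ Ax K v ↔ P K v φ := Iff.rfl

theorem Ax_smul {a : ZMod p} (ha : a ≠ 0) (v : X) : Ax K (a • v) = Ax K v := by
  ext φ
  exact ⟨P.of_smul_centre ha, fun h => P.smul_centre h a⟩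

theorem finrank_Ax_conj {g : X ≃ₗ[ZMod p] X} (hg : g ∈ K) (v : X) :
    finrank (ZMod p) (Ax K (g v)) = finrank (ZMod p) (Ax K v) := by
  refine LinearEquiv.finrank_eq ?_
  refine (LinearEquiv.ofSubmodules g.symm.dualMap (Ax K v) (Ax K (g v)) ?_).symm
  ext φ
  constructor
  · rintro ⟨ψ, hψ, rfl⟩
    exact P.conj hψ hg
  · intro hφ
    refine ⟨φ ∘ₗ (g : X →ₗ[ZMod p] X), ?_, LinearMap.ext fun x => by simp⟩
    have := P.conj hφ (inv_mem hg)
    change P K (g.symm (g v)) (φ ∘ₗ (g.symm.symm : X →ₗ[ZMod p] X)) at this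
    rwa [g.symm_apply_apply, g.symm_symm] at this

/-- If the axis of `(w, ψ)` contains `v` and `(v, φ)` moves `w`, then `(v, ψ)` is in `K`. -/
theorem P.shift {v w : X} {φ ψ : Dual (ZMod p) X} (h : P K v φ) (h' : P K w ψ) (hψ : ψ v = 0)
    (hφ : φ w ≠ 0) : P K v ψ := by
  obtain ⟨h0, g, hg, hx⟩ := h
  have h1 := h'.conj hg
  have e : ψ ∘ₗ (g.symm : X →ₗ[ZMod p] X) = ψ := by
    refine LinearMap.ext fun x => ?_
    have e2 := congrArg ψ (g.apply_symm_apply x)
    rw [hx, map_add, map_smul, hψ, smul_zero, add_zero] at e2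
    exact e2
  rw [e, hx] at h1
  have h2 := h1.add_centre (h'.smul_centre (-1))
  rw [neg_one_smul, add_neg_cancel_comm] at h2
  exact h2.of_smul_centre hφ

theorem Adj.ne_zero {v w : X} (h : Adj K v w) : w ≠ 0 := by
  rintro rfl
  obtain ⟨φ, -, h0⟩ := h
  exact h0 (map_zero φ)

theorem Adj.centre {v w : X} (h : Adj K v w) (hv : v ≠ 0) : Centre K v := by
  obtain ⟨φ, h1, h2⟩ := h
  exact ⟨hv, φ, h1, fun e => h2 (by rw [e]; rfl)⟩

theorem Centre.conj {v : X} (h : Centre K v) {g : X ≃ₗ[ZMod p] X} (hg : g ∈ K) :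
    Centre K (g v) := by
  obtain ⟨hv, φ, hp, hφ⟩ := h
  refine ⟨by simpa using hv, _, hp.conj hg, fun e => hφ (LinearMap.ext fun x => ?_)⟩
  simpa using LinearMap.congr_fun e (g x)

theorem Centre.smul {v : X} (h : Centre K v) {a : ZMod p} (ha : a ≠ 0) : Centre K (a • v) := by
  obtain ⟨hv, φ, hp, hφ⟩ := h
  exact ⟨smul_ne_zero ha hv, φ, hp.smul_centre a, hφ⟩

/-- A transvection moving `w` takes it to `w + k • v`. -/
theorem exists_map_add {v w : X} (h : Adj K v w) (k : ZMod p) :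
    ∃ g ∈ K, g w = w + k • v := by
  obtain ⟨φ, hp, hw⟩ := h
  obtain ⟨-, g, hg, hx⟩ := hp.smul_axis (k / φ w)
  refine ⟨g, hg, ?_⟩
  rw [hx, LinearMap.smul_apply, smul_eq_mul, div_mul_cancel₀ k hw]

/-- Two transvections moving each other's centres give a conjugation between the centres. -/
theorem exists_map_eq {v w : X} (h : Adj K v w) (h' : Adj K w v) : ∃ g ∈ K, g v = w := by
  obtain ⟨g, hg, hgv⟩ := exists_map_add h' 1
  obtain ⟨φ, hp, hw⟩ := h
  have hadj : Adj K v (v + w) := ⟨φ, hp, by rw [map_add, hp.1, zero_add]; exact hw⟩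
  obtain ⟨g', hg', hgw⟩ := exists_map_add hadj (-1)
  refine ⟨g' * g, mul_mem hg' hg, ?_⟩
  rw [LinearEquiv.mul_apply, hgv, one_smul, hgw, neg_one_smul, add_neg_cancel_comm]

end CfsgLib.McLaughlinTV
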